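import Mathlib
import Cfsg.Agent.SignalizersComponents.IntrinsicBasic
import Cfsg.Agent.SignalizersComponents.RelSylow

/-!
S1738, section 5b (the world with pairs of type (0)): the abstract record `Frame` of everything that section 5b
uses, and its first consequences.  `D` = the class of `z`, `L u` = the intrinsic 2-component of `C(u)`,
`cmp x u` = the 2-component of `C(x)` above `C_{L u}(x)` (for `x` centralizing `L u` modulo core).
-/

set_option autoImplicit false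

namespace Cfsg.Agent.Intrinsic.WOneA

open Subgroup Cfsg
open Cfsg.Agent.SignalizersComponents.PLayerAut
open Cfsg.Agent.SignalizersComponents.IntrinsicBasic
open Cfsg.Agent.SignalizersComponents.RelSylow

/-- `C_G(x)` -/
abbrev Ce {G : Type*} [Group G] (x : G) : Subgroup G := centralizer ({x} : Set G)

/-- `O(C_G(x))` -/
abbrev OC {G : Type*} [Group G] (x : G) : Subgroup G := relCore 2 (centralizer ({x} : Set G))

/-- The output of section 5 of `blueprints/S1738.md` in the world with pairs of type (0). -/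
structure Frame (G : Type*) [Group G] where
  /-- the class `D` -/
  D : Set G
  /-- `L u = L_u` -/
  L : G → Subgroup G
  /-- `cmp x u = M_x(L_u)` -/
  cmp : G → G → Subgroup G
  ord : ∀ u ∈ D, orderOf u = 2
  conj : ∀ u ∈ D, ∀ g : G, g * u * g⁻¹ ∈ D
  one_class : ∀ u ∈ D, ∀ v ∈ D, ∃ g : G, g * u * g⁻¹ = v
  L_conj : ∀ u ∈ D, ∀ g : G, L (g * u * g⁻¹) = cj g (L u)
  L_comp : ∀ u ∈ D, TC (Ce u) (L u)
  self_mem : ∀ u ∈ D, u ∈ L u
  /-- (5.1) and all involutions of `L u` are in `D` -/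
  invol : ∀ u ∈ D, ∀ t ∈ L u, orderOf t = 2 → t ∈ D ∧ u ∈ L t
  /-- `Z(L u / O(L u))` has `u` as its only involution -/
  inf_eq : ∀ u ∈ D, ∀ t ∈ L u, orderOf t = 2 → t ∈ cenMod (Ce u) (L u) → t = u
  /-- (5.6) -/
  split : ∀ u ∈ D, ∀ v ∈ D, Commute u v → v ∈ L u ∨ v ∈ cenMod (Ce u) (L u)
  /-- (5.1), type (0) is symmetric -/
  symm : ∀ u ∈ D, ∀ v ∈ D, v ∈ cenMod (Ce u) (L u) → u ∈ cenMod (Ce v) (L v)
  /-- (5.5) -/
  prod : ∀ u ∈ D, ∀ v ∈ D, u ≠ v → v ∈ cenMod (Ce u) (L u) → u * v ∉ D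
  /-- a 2-group `V` centralizing `L u` modulo core centralizes some involution `≠ u` of `L u` -/
  exists_inv : ∀ u ∈ D, ∀ V : Subgroup G, IsPGroup 2 V → V ≤ cenMod (Ce u) (L u) →
    ∃ t ∈ L u, orderOf t = 2 ∧ t ≠ u ∧ ∀ v ∈ V, Commute t v
  /-- involutions `≠ u` of `L u` do not centralize a Sylow 2-subgroup of `L u` -/
  sylow : ∀ u ∈ D, ∀ t ∈ L u, orderOf t = 2 → t ≠ u → ∀ P : Subgroup G, IsMaxP 2 (L u) P →
    ∃ p ∈ P, ¬ Commute p t
  cmp_comp : ∀ u ∈ D, ∀ x ∈ cenMod (Ce u) (L u), orderOf x = 2 → TC (Ce x) (cmp x u)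
  cmp_self : ∀ u ∈ D, cmp u u = L u
  cmp_conj : ∀ u ∈ D, ∀ x ∈ cenMod (Ce u) (L u), orderOf x = 2 → ∀ g : G,
    cmp (g * x * g⁻¹) (g * u * g⁻¹) = cj g (cmp x u)
  /-- 2-elements of `L u` commuting with `x` are in `M_x(L_u)` -/
  mem_cmp : ∀ u ∈ D, ∀ x ∈ cenMod (Ce u) (L u), orderOf x = 2 → ∀ a ∈ L u, ∀ n : ℕ,
    a ^ 2 ^ n = 1 → Commute a x → a ∈ cmp x u
  /-- 2-elements of `M_x(L_u)` commuting with `u` are in `L u` (T8) -/
  of_cmp : ∀ u ∈ D, ∀ x ∈ cenMod (Ce u) (L u), orderOf x = 2 → ∀ a ∈ cmp x u, ∀ n : ℕ,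
    a ^ 2 ^ n = 1 → Commute a u → a ∈ L u
  /-- all involutions of `M_x(L_u)` are in `D` -/
  cmp_inv : ∀ u ∈ D, ∀ x ∈ cenMod (Ce u) (L u), orderOf x = 2 → ∀ t ∈ cmp x u, orderOf t = 2 →
    t ∈ D
  /-- an involution centralizing `M_x(L_u)` modulo core (and `u`) centralizes `L u` modulo core -/
  cmp_cen : ∀ u ∈ D, ∀ x ∈ cenMod (Ce u) (L u), orderOf x = 2 → ∀ c : G, orderOf c = 2 →
    Commute c u → c ∈ cenMod (Ce x) (cmp x u) → c ∈ cenMod (Ce u) (L u)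
  /-- (5.5): for a pair of type (0) `M_s(L_u)` is big: all its involutions are conjugate in it -/
  big : ∀ u ∈ D, ∀ s ∈ D, u ≠ s → s ∈ cenMod (Ce u) (L u) → ∀ t ∈ cmp s u, orderOf t = 2 →
    ∃ g ∈ cmp s u, g * u * g⁻¹ = t
  /-- (5.3): `M_x(L_u)` is small (`u` central modulo core) if `x ∉ K_t` for one `t` -/
  small : ∀ u ∈ D, ∀ x ∈ cenMod (Ce u) (L u), orderOf x = 2 → ∀ t ∈ L u, orderOf t = 2 → t ≠ u →
    Commute t x → x ∉ cenMod (Ce t) (L t) → u ∈ cenMod (Ce x) (cmp x u)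
  /-- the diagonal: if `b` swaps `v` and `v'` (a pair of type (0)) then `v v'` is in a 2-component of `C(b)` -/
  diag : ∀ b : G, orderOf b = 2 → ∀ v ∈ D, b * v * b⁻¹ ≠ v →
    b * v * b⁻¹ ∈ cenMod (Ce v) (L v) → ∃ N, TC (Ce b) N ∧ v * (b * v * b⁻¹) ∈ N
  /-- balance for pairs of type (0), from (A10) -/
  bal : ∀ u ∈ D, ∀ s ∈ D, u ≠ s → s ∈ cenMod (Ce u) (L u) → ∀ x ∈ OC u, Commute x s → x ∈ OC s
  /-- (SE0): if `O(C(s)) = 1`, the commuting graph on the involutions of the big component `M_s(L_u)` is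
  connected -/
  se : ∀ u ∈ D, ∀ s ∈ D, u ≠ s → s ∈ cenMod (Ce u) (L u) → OC s = ⊥ → ∀ S : Set G, u ∈ S →
    (∀ t ∈ S, ∀ t' ∈ cmp s u, orderOf t' = 2 → Commute t t' → t' ∈ S) →
    ∀ t ∈ cmp s u, orderOf t = 2 → t ∈ S

namespace Frame

variable {G : Type*} [Group G] (F : Frame G)

/-- `K_u` -/
def K (u : G) : Subgroup G := cenMod (Ce u) (F.L u)

/-- pairs of type (0) -/
structure Z (u s : G) : Prop where
  left : u ∈ F.D
  right : s ∈ F.D
  ne : u ≠ s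
  mem : s ∈ F.K u

end Frame

end Cfsg.Agent.Intrinsic.WOneA
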