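import Cfsg.Agent.Intrinsic.WOne.Base
import Cfsg.Agent.Intrinsic.WOneA.Frame
import Cfsg.Agent.Intrinsic.TypeGOne
import Cfsg.Agent.StandardComponent.CoverExtra

/-!
# The fields `exists_inv`, `sylow`, `diag` of the record `Frame` in the world W1
-/

set_option autoImplicit false

open Cfsg Subgroup Equiv
open Cfsg.Agent.SignalizersComponents Cfsg.Agent.Lib
open Cfsg.Agent.SignalizersComponents.IntrinsicBasic
open Cfsg.Agent.SignalizersComponents.RelSylow
open Cfsg.Agent.Intrinsic.Basic Cfsg.Agent.Intrinsic.Cen Cfsg.Agent.Intrinsic.Quot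
open Cfsg.Agent.Intrinsic.Diag Cfsg.Agent.Intrinsic.TypeGOne Cfsg.Agent.Intrinsic.WOne

namespace Cfsg.Agent.Intrinsic.WOneA.OfDiag

variable {G : Type*} [Group G] [Finite G] {n : ℕ} {D : Set G} {L : G → Subgroup G}

theorem exists_inv (h : W1 n D L) : ∀ u ∈ D, ∀ V : Subgroup G, IsPGroup 2 V →
    V ≤ cenMod (Ce u) (L u) → ∃ t ∈ L u, orderOf t = 2 ∧ t ≠ u ∧ ∀ v ∈ V, Commute t v := by
  intro u hu V hV hle
  have hc : ∀ a ∈ V, a ∈ centralizer ({u} : Set G) := fun a ha => cenMod_le _ _ (hle ha)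
  obtain ⟨t, ht, h1, h2, h3, h4⟩ := h.exists_inv_comm hu hV
    (fun a ha => mem_centralizer_singleton_iff.mp (hc a ha))
    (fun a ha => ((h.comp hu).fixes_iff (hc a ha)).mpr (hle ha))
  exact ⟨t, ht, order_two h1 h2, h3, fun v hv => (h4 v hv).symm⟩

theorem sylow (h : W1 n D L) : ∀ u ∈ D, ∀ t ∈ L u, orderOf t = 2 → t ≠ u → ∀ P : Subgroup G,
    IsMaxP 2 (L u) P → ∃ p ∈ P, ¬ Commute p t := by
  intro u hu t ht hto htu P hP
  by_contra hcon
  push Not at hcon
  have : Fact (Nat.Prime 2) := ⟨Nat.prime_two⟩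
  have htt : t * t = 1 := by rw [← pow_two, ← hto, pow_orderOf_eq_one]
  have ht1 : t ≠ 1 := by
    rintro rfl
    rw [orderOf_one] at hto
    exact absurd hto (by norm_num)
  set A := h.act hu with hA
  have hf1 := A.f_ne_one ht htt ht1 htu
  have hf2 := A.f_sq (A.comm ht) htt
  rw [A.f_cov ht] at hf1 hf2
  -- the image of `P`
  have hodd : Odd ((P.subgroupOf (L u)).map (QuotientGroup.mk' (oddCore ↥(L u)))).index := by
    have h1 : ¬ 2 ∣ (P.subgroupOf (L u)).index := by
      have := hP.toSylow.not_dvd_index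
      exact this
    have h2 : ((P.subgroupOf (L u)).map (QuotientGroup.mk' (oddCore ↥(L u)))).index ∣
        (P.subgroupOf (L u)).index :=
      Subgroup.index_map_dvd _ (QuotientGroup.mk'_surjective _)
    rw [← Nat.not_even_iff_odd, even_iff_two_dvd]
    exact fun h3 => h1 (h3.trans h2)
  apply StandardComponent.CoverExtra.not_commute_sylow A.cov _ hodd hf2 hf1
  rintro _ ⟨⟨p, hpL⟩, hpP, rfl⟩
  have h3 : p * t = t * p := hcon p hpP
  change (QuotientGroup.mk ⟨p * t, (L u).mul_mem hpL ht⟩ : ↥(L u) ⧸ oddCore ↥(L u)) =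
    QuotientGroup.mk ⟨t * p, (L u).mul_mem ht hpL⟩
  congr 1
  exact Subtype.ext h3

theorem diag (h : W1 n D L) : ∀ b : G, orderOf b = 2 → ∀ v ∈ D, b * v * b⁻¹ ≠ v →
    b * v * b⁻¹ ∈ cenMod (Ce v) (L v) → ∃ N, TC (Ce b) N ∧ v * (b * v * b⁻¹) ∈ N := by
  intro b hbo v hv hne hmem
  have hbb : b * b = 1 := by rw [← pow_two, ← hbo, pow_orderOf_eq_one]
  have hbi : b⁻¹ = b := inv_eq_of_mul_eq_one_left hbb
  obtain ⟨w, hw⟩ : ∃ w, w = b * v * b⁻¹ := ⟨_, rfl⟩
  rw [← hw] at hne hmem ⊢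
  have hwD : w ∈ D := hw ▸ h.conj hv b
  have hwC : w ∈ centralizer ({v} : Set G) := cenMod_le _ _ hmem
  have hwv : w * v = v * w := mem_centralizer_singleton_iff.mp hwC
  have hfw : Fixes w (L v) := ((h.comp hv).fixes_iff hwC).mpr hmem
  have hv2 := h.sq hv
  have hw2 := h.sq hwD
  obtain ⟨c, hc⟩ : ∃ c, c = v * w := ⟨_, rfl⟩
  rw [← hc]
  have hcv : c * v = v * c := by rw [hc, mul_assoc, hwv]
  have hcc : c * c = 1 := by
    rw [hc]
    calc v * w * (v * w) = v * (w * v) * w := by group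
      _ = (v * v) * (w * w) := by rw [hwv]; group
      _ = 1 := by rw [hv2, hw2, one_mul]
  have hc1 : c ≠ 1 := by
    intro h1
    apply hne
    rw [hc] at h1
    have h2 := eq_inv_of_mul_eq_one_right h1
    rw [h2, inv_eq_of_mul_eq_one_left hv2]
  have hbwb : b * w * b⁻¹ = v := by
    rw [hw, hbi]
    calc b * (b * v * b) * b = (b * b) * v * (b * b) := by group
      _ = v := by rw [hbb, one_mul, mul_one]
  have hbc : b * c * b⁻¹ = c := by
    have : b * c * b⁻¹ = (b * v * b⁻¹) * (b * w * b⁻¹) := by rw [hc]; group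
    rw [this, hbwb, ← hw, hwv, hc]
  have hbc' : b * c = c * b := by
    calc b * c = b * c * b⁻¹ * b := by group
      _ = c * b := by rw [hbc]
  have hfv : Fixes v (L v) := h.fixes_self hv
  have hfc : Fixes c (L v) := by
    have hvC : v ∈ centralizer ({v} : Set G) := mem_centralizer_singleton_iff.mpr rfl
    have hcC : c ∈ centralizer ({v} : Set G) := mem_centralizer_singleton_iff.mpr hcv
    rw [(h.comp hv).fixes_iff hcC, hc]
    exact mul_mem (((h.comp hv).fixes_iff hvC).mp hfv) hmem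
  have hpv := h.pair hv
  have hM := pump_comp hpv hcc hcv hfc
  have hvM := mem_pump hpv hcc hcv hfc
  set M := pump c (L v) with hMdef
  have hbC : b ∈ centralizer ({c} : Set G) := mem_centralizer_singleton_iff.mpr hbc'
  have hwM : w ∈ cj b M := by rw [hw]; exact conj_mem_cj hvM
  have hcv1 : c ≠ v := by
    intro h1
    rw [hc] at h1
    exact h.ne_one hwD (mul_eq_left.mp h1)
  have hmove : cj b M ≠ M := by
    intro h1
    rw [h1] at hwM
    have hcM : c ∈ M := by rw [hc]; exact mul_mem hvM hwM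
    have hcent : ∀ y ∈ M, y * c = c * y := fun y hy => mem_centralizer_singleton_iff.mp (hM.le hy)
    rcases h.small_or_big hv hcc hc1 hcv hfc with hs | hb
    · have hfvM : Fixes v M := hs.fixes hpv hcv
      have hcovM : IsNonsplitDoubleCover (↥M ⧸ oddCore ↥M) ↥(alternatingGroup (Fin n)) := by
        have h2 : cen (L v) c ⊔ core M = M := hs
        rw [← cover_of_sup h2, cover_cen (h.comp hv) (mem_centralizer_singleton_iff.mpr hcv) hcc hfc]
        exact hpv.cover
      have hfcM : Fixes c M := by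
        rw [fixes_iff_conj]
        refine ⟨le_normalizer hcM, fun y hy => ?_⟩
        have : c * y * c⁻¹ = y := by rw [← hcent y hy, mul_inv_cancel_right]
        rw [this, inv_mul_cancel]
        exact one_mem _
      exact hcv1 (eq_of_fixes hcovM hcM hvM hcc hv2 hc1 (h.ne_one hv) hfcM hfvM hcv)
    · obtain ⟨g, hg, hgc⟩ := Big.conj hb hv2 hcM hcc hc1
      apply hcv1
      have h3 := hcent g hg
      calc c = g⁻¹ * (g * c) := by group
        _ = g⁻¹ * (c * g) := by rw [h3]
        _ = v := by rw [← hgc]; group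
  obtain ⟨hN, -, -, -, -⟩ := exists_diag hM hbC hbb hmove
  have hcN : c ∈ Diag.diag (centralizer ({c} : Set G)) M b :=
    mem_diag (mem_centralizer_singleton_iff.mpr rfl) hbc'.symm hvM
      (by rw [← hw, ← hc, inv_mul_cancel]; exact one_mem _) (n := 1)
      (by rw [pow_one, pow_two]; exact hcc)
  rw [inf_comm] at hN
  obtain ⟨R, hR, hNR⟩ := exists_pumpup hcc hcN hN
  exact ⟨R, hR.tc, hNR hcN⟩

end Cfsg.Agent.Intrinsic.WOneA.OfDiag
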