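import Cfsg.Agent.Intrinsic.WOneA.Ind

/-!
S1738, section 5b.3: `D ∩ T` for a Sylow 2-subgroup `T`.
-/

set_option autoImplicit false
set_option linter.unusedSectionVars false

namespace Cfsg.Agent.Intrinsic.WOneA

open Subgroup Cfsg
open Cfsg.Agent.SignalizersComponents
open Cfsg.Agent.SignalizersComponents.PLayerAut
open Cfsg.Agent.SignalizersComponents.IntrinsicBasic
open Cfsg.Agent.SignalizersComponents.RelSylow

section general

variable {G : Type*} [Group G] [Finite G]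

theorem isMaxP_of_card {C P : Subgroup G} (hP : IsPGroup 2 P) (hPC : P ≤ C)
    (h : ∀ R : Subgroup G, IsPGroup 2 R → R ≤ C → Nat.card R ≤ Nat.card P) : IsMaxP 2 C P := by
  refine ⟨hP, hPC, fun R hR hRC hPR => ?_⟩
  exact (Subgroup.eq_of_le_of_card_ge hPR (h R hR hRC)).ge

theorem IsMaxP.card_le {C P R : Subgroup G} (hP : IsMaxP 2 C P) (hR : IsPGroup 2 R)
    (hRC : R ≤ C) : Nat.card R ≤ Nat.card P := by
  have : Fact (Nat.Prime 2) := ⟨Nat.prime_two⟩
  obtain ⟨c, _, hc⟩ := hP.exists_conj_le hR hRC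
  rw [← card_map_conj R c]
  exact Nat.card_le_card_of_injective _ (Subgroup.inclusion_injective hc)

theorem card_cj (g : G) (R : Subgroup G) : Nat.card (cj g R) = Nat.card R := card_map_conj R g

/-- a maximal 2-subgroup of `H` meets a normal subgroup in a maximal 2-subgroup -/
theorem IsMaxP.inf_of_normalizes {H N P : Subgroup G} (hP : IsMaxP 2 H P) (hN : N ≤ H)
    (hn : H ≤ normalizer (N : Set G)) : IsMaxP 2 N (P ⊓ N) := by
  have : Fact (Nat.Prime 2) := ⟨Nat.prime_two⟩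
  refine isMaxP_of_card (hP.1.to_le inf_le_left) inf_le_right fun R hR hRN => ?_
  obtain ⟨c, hcH, hc⟩ := hP.exists_conj_le hR (hRN.trans hN)
  rw [← card_map_conj R c]
  have h2 : R.map (MulAut.conj c).toMonoidHom ≤ N := by
    have h3 : cj c R ≤ cj c N := cj_mono hRN
    rwa [mem_normalizer_iff_cj.mp (hn hcH)] at h3
  exact Nat.card_le_card_of_injective _ (Subgroup.inclusion_injective (le_inf hc h2))

theorem mem_sup_of_normalizes {R N : Subgroup G} (hRN : R ≤ normalizer (N : Set G)) {y : G}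
    (hy : y ∈ R ⊔ N) : ∃ r ∈ R, ∃ n ∈ N, r * n = y := by
  let S : Subgroup G :=
    { carrier := {x | ∃ r ∈ R, ∃ n ∈ N, r * n = x}
      mul_mem' := by
        rintro _ _ ⟨r, hr, n, hn, rfl⟩ ⟨r', hr', n', hn', rfl⟩
        refine ⟨r * r', R.mul_mem hr hr', (r'⁻¹ * n * r') * n', ?_, by group⟩
        refine N.mul_mem ?_ hn'
        have := (mem_normalizer_iff.mp (hRN (R.inv_mem hr')) n).mp hn
        rwa [inv_inv] at this
      one_mem' := ⟨1, R.one_mem, 1, N.one_mem, one_mul 1⟩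
      inv_mem' := by
        rintro _ ⟨r, hr, n, hn, rfl⟩
        refine ⟨r⁻¹, R.inv_mem hr, r * n⁻¹ * r⁻¹, ?_, by group⟩
        exact (mem_normalizer_iff.mp (hRN hr) n⁻¹).mp (N.inv_mem hn) }
  have h1 : R ⊔ N ≤ S := sup_le (fun r hr => ⟨r, hr, 1, N.one_mem, mul_one r⟩)
    (fun n hn => ⟨1, R.one_mem, n, hn, one_mul n⟩)
  exact h1 hy

/-- 2-groups `R`, `W` with `[R, W] ≤ N`, `N` of odd order normalized by both: a conjugate of `R` under `R N`
commutes with `W`. -/
theorem exists_commuting_conj {N R W : Subgroup G} (hN : Odd (Nat.card N)) (hR : IsPGroup 2 R)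
    (hW : IsPGroup 2 W) (hRN : R ≤ normalizer (N : Set G)) (hWN : W ≤ normalizer (N : Set G))
    (h : ∀ r ∈ R, ∀ w ∈ W, r⁻¹ * (w * r * w⁻¹) ∈ N) :
    ∃ y ∈ R ⊔ N, ∀ r ∈ cj y R, ∀ w ∈ W, Commute r w := by
  have : Fact (Nat.Prime 2) := ⟨Nat.prime_two⟩
  obtain ⟨Y, hY⟩ : ∃ Y, Y = R ⊔ N := ⟨_, rfl⟩
  have hmemY : ∀ y ∈ Y, ∃ r ∈ R, ∃ n ∈ N, r * n = y := by
    intro y hy
    rw [hY] at hy
    exact mem_sup_of_normalizes hRN hy
  have hcomm : ∀ y ∈ Y, ∀ w ∈ W, y⁻¹ * (w * y * w⁻¹) ∈ N := by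
    intro y hy w hw
    obtain ⟨r, hr, n, hn, rfl⟩ := hmemY y hy
    have h1 := h r hr w hw
    have h2 : w * n * w⁻¹ ∈ N := (mem_normalizer_iff.mp (hWN hw) n).mp hn
    have e : (r * n)⁻¹ * (w * (r * n) * w⁻¹) = n⁻¹ * (r⁻¹ * (w * r * w⁻¹)) * (w * n * w⁻¹) := by
      group
    rw [e]
    exact N.mul_mem (N.mul_mem (N.inv_mem hn) h1) h2
  have hWY : W ≤ normalizer (Y : Set G) := by
    have hsub : ∀ w ∈ W, cj w Y ≤ Y := by
      intro w hw x hx
      rw [mem_cj] at hx
      have h1 := hcomm _ hx w hw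
      have e : x = (w⁻¹ * x * w) * ((w⁻¹ * x * w)⁻¹ * (w * (w⁻¹ * x * w) * w⁻¹)) := by group
      rw [e]
      exact Y.mul_mem hx (hY ▸ mem_sup_right h1)
    intro w hw
    rw [mem_normalizer_iff_cj]
    apply le_antisymm (hsub w hw)
    have h1 := cj_mono (g := w) (hsub w⁻¹ (W.inv_mem hw))
    rwa [cj_cj_inv] at h1
  obtain ⟨Q, hQ, hWQ⟩ := exists_isMaxP (p := 2) hW (le_sup_right : W ≤ Y ⊔ W)
  have hQY := IsMaxP.inf_of_normalizes hQ (le_sup_left : Y ≤ Y ⊔ W) (sup_le le_normalizer hWY)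
  obtain ⟨y, hy, hyR⟩ := hQY.exists_conj_le hR (hY ▸ le_sup_left)
  refine ⟨y, hY ▸ hy, fun r hr w hw => ?_⟩
  have hrQ := hyR hr
  have h1 := hcomm r hrQ.2 w hw
  have h2 : r⁻¹ * (w * r * w⁻¹) ∈ Q :=
    Q.mul_mem (Q.inv_mem hrQ.1) (Q.mul_mem (Q.mul_mem (hWQ hw) hrQ.1) (Q.inv_mem (hWQ hw)))
  have h3 : r⁻¹ * (w * r * w⁻¹) = 1 := by
    obtain ⟨k, hk⟩ := hQ.1 ⟨_, h2⟩
    exact eq_one_of_mem_odd hN h1 (n := k) (by simpa using congrArg Subtype.val hk)
  have h4 : w * r * w⁻¹ = r := (inv_mul_eq_one.mp h3).symm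
  exact (commute_of_conj_eq h4).symm

end general

namespace Frame

variable {G : Type*} [Group G] [Finite G] {F : Frame G}

theorem two_pow_of_mem {P : Subgroup G} (hP : IsPGroup 2 P) {x : G} (hx : x ∈ P) :
    ∃ n : ℕ, x ^ 2 ^ n = 1 := by
  obtain ⟨k, hk⟩ := hP ⟨x, hx⟩
  exact ⟨k, by simpa using congrArg Subtype.val hk⟩

/-- a Sylow 2-subgroup of `L u` centralized by `s` is a Sylow 2-subgroup of the big component `M_s(L_u)` -/
theorem Z.isMaxP_cmp {u s : G} (h : F.Z u s) {P : Subgroup G} (hP : IsMaxP 2 (F.L u) P)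
    (hPs : ∀ p ∈ P, Commute p s) : IsMaxP 2 (F.cmp s u) P := by
  have h2 : Fact (Nat.Prime 2) := ⟨Nat.prime_two⟩
  have hs2 := F.ord s h.right
  refine isMaxP_of_card hP.1 ?_ fun R hR hRM => ?_
  · intro p hp
    obtain ⟨n, hn⟩ := two_pow_of_mem hP.1 hp
    exact h.mem_cmp (hP.2.1 hp) hn (hPs p hp)
  · by_cases hbot : Nat.card R = 1
    · rw [hbot]; exact Nat.card_pos
    -- a central involution of `R`
    have hnt : Nontrivial R := (Finite.one_lt_card_iff_nontrivial).mp (by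
      have := Nat.card_pos (α := R); omega)
    have hcn : Nontrivial (center R) := hR.center_nontrivial
    have hcp : IsPGroup 2 (center R) := hR.to_subgroup _
    obtain ⟨n, hn⟩ := (hcp.nontrivial_iff_card).mp hcn
    have hdvd : 2 ∣ Nat.card (center R) := by
      rw [hn.2]; exact dvd_pow_self 2 hn.1.ne'
    obtain ⟨y, hy⟩ := exists_prime_orderOf_dvd_card' 2 hdvd
    have hy2 : orderOf ((y : R) : G) = 2 := by
      rw [Subgroup.orderOf_coe, Subgroup.orderOf_coe]; exact hy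
    have hyM : ((y : R) : G) ∈ F.cmp s u := hRM y.1.2
    obtain ⟨g, hg, hgy⟩ := F.big u h.left s h.right h.ne h.mem _ hyM hy2
    have hcent : ∀ r ∈ R, Commute r ((y : R) : G) := by
      intro r hr
      have := mem_center_iff.mp y.2 ⟨r, hr⟩
      exact congrArg Subtype.val this
    have hsub : cj g⁻¹ R ≤ F.L u := by
      intro x hx
      have hxR : g * x * g⁻¹ ∈ R := by
        rw [mem_cj, inv_inv] at hx; exact hx
      obtain ⟨k, hk⟩ := two_pow_of_mem hR hxR
      have hk' : x ^ 2 ^ k = 1 := by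
        rw [conj_pow] at hk
        have : g⁻¹ * (g * x ^ 2 ^ k * g⁻¹) * g = 1 := by rw [hk]; group
        rwa [show g⁻¹ * (g * x ^ 2 ^ k * g⁻¹) * g = x ^ 2 ^ k by group] at this
      have hxM : x ∈ F.cmp s u := by
        have h3 := hRM hxR
        have h4 := (F.cmp s u).mul_mem ((F.cmp s u).mul_mem ((F.cmp s u).inv_mem hg) h3) hg
        rwa [show g⁻¹ * (g * x * g⁻¹) * g = x by group] at h4
      refine F.of_cmp u h.left s h.mem hs2 x hxM k hk' ?_
      have h5 := hcent _ hxR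
      rw [← hgy] at h5
      have h6 : g * (x * u) * g⁻¹ = g * (u * x) * g⁻¹ := by
        calc g * (x * u) * g⁻¹ = (g * x * g⁻¹) * (g * u * g⁻¹) := by group
          _ = (g * u * g⁻¹) * (g * x * g⁻¹) := h5.eq
          _ = g * (u * x) * g⁻¹ := by group
      exact mul_left_cancel (mul_right_cancel h6)
    rw [← card_cj g⁻¹ R]
    exact IsMaxP.card_le hP (hR.map _) hsub

/-- the block structure of `D ∩ T` -/
structure Block (F : Frame G) (T : Subgroup G) (V : List G) : Prop where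
  ind : F.Ind V
  two : 2 ≤ V.length
  max : ∀ J, F.Ind J → J.length ≤ V.length
  pg : IsPGroup 2 T
  mem : ∀ v ∈ V, v ∈ T
  syl : ∀ v ∈ V, IsMaxP 2 (F.L v) (T ⊓ F.L v)
  cov : ∀ w ∈ F.D, w ∈ T → ∃ v ∈ V, w ∈ F.L v

theorem exists_block {u s : G} (h : F.Z u s) : ∃ (T : Sylow 2 G) (V : List G),
    Block F (T : Subgroup G) V := by
  have h2 : Fact (Nat.Prime 2) := ⟨Nat.prime_two⟩
  have h0 : F.Ind [u, s] :=
    (Ind.cons (J := [s]) (Ind.cons (J := []) ⟨by simp, List.Pairwise.nil⟩ h.right (by simp)) h.left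
      (by simpa using h))
  obtain ⟨V, hV, hlen, hmax⟩ := F.exists_max [u, s] h0
  have hlen2 : 2 ≤ V.length := by simpa using hlen
  have hWC : closure (lset V) ≤ centralizer (lset V) := by
    rw [closure_le]
    intro i hi
    rw [SetLike.mem_coe, mem_centralizer_iff]
    intro j hj
    exact (hV.comm hj hi).eq
  obtain ⟨S, hS, hWS⟩ := exists_isMaxP (p := 2) hV.closure_pgroup hWC
  obtain ⟨T, hST⟩ := hS.1.exists_le_sylow
  have hmem : ∀ v ∈ V, v ∈ (T : Subgroup G) := fun v hv => hST (hWS (subset_closure hv))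
  have hTC : ∀ a ∈ (T : Subgroup G), (∀ v ∈ V, Commute a v) → a ∈ S := by
    intro a ha hc
    have h3 := hS.2.2 ((T : Subgroup G) ⊓ centralizer (lset V)) (T.2.to_le inf_le_left)
      inf_le_right (le_inf hST hS.2.1)
    refine h3 (mem_inf.mpr ⟨ha, mem_centralizer_iff.mpr fun v hv => ?_⟩)
    exact (hc v hv).eq.symm
  have key1 : ∀ v ∈ V, ∀ a ∈ (T : Subgroup G), a ∈ F.L v → ∀ v' ∈ V, Commute a v' := by
    intro v hv a haT haL v' hv'
    by_cases e : v' = v
    · rw [e]; exact mem_Ce.mp (F.L_le (hV.mem v hv) haL)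
    · exact F.comm_LK T.2 (hV.mem v hv) haL haT (hV.z hv hv' (Ne.symm e)).mem (hmem v' hv')
  have key2 : ∀ v ∈ V, IsMaxP 2 (F.L v) ((T : Subgroup G) ⊓ F.L v) := by
    intro v hv
    have hvD := hV.mem v hv
    have hTS : (T : Subgroup G) ⊓ F.L v = S ⊓ (F.L v ⊓ centralizer (lset V)) := by
      ext a
      constructor
      · rintro ⟨h3, h4⟩
        have h5 := hTC a h3 (key1 v hv a h3 h4)
        exact ⟨h5, h4, hS.2.1 h5⟩
      · rintro ⟨h3, h4, _⟩
        exact ⟨hST h3, h4⟩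
    have hn : centralizer (lset V) ≤
        normalizer ((F.L v ⊓ centralizer (lset V) : Subgroup G) : Set G) := by
      intro c hc
      rw [mem_normalizer_iff_cj]
      have hcv : c ∈ normalizer (F.L v : Set G) := by
        rw [mem_normalizer_iff_cj, ← F.L_conj v hvD]
        congr 1
        exact conj_eq_of_commute (mem_centralizer_iff.mp hc v hv).symm
      have hcc : c ∈ normalizer ((centralizer (lset V) : Subgroup G) : Set G) := le_normalizer hc
      rw [mem_normalizer_iff_cj] at hcv hcc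
      ext x
      rw [mem_cj, mem_inf, mem_inf]
      rw [← mem_cj, ← mem_cj, hcv, hcc]
    have hmx := IsMaxP.inf_of_normalizes hS inf_le_right hn
    rw [hTS]
    refine isMaxP_of_card hmx.1 (hmx.2.1.trans inf_le_left) fun R hR hRL => ?_
    have hLn : F.L v ≤ normalizer (OC v : Set G) :=
      (F.L_le hvD).trans (le_normalizer.trans (normalizer_le_normalizer_relCore 2 _))
    have hKW : closure (lset V) ≤ F.K v := by
      rw [closure_le]
      intro v' hv'
      by_cases e : v' = v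
      · rw [e]; exact F.self_mem_K hvD
      · exact (hV.z hv hv' (Ne.symm e)).mem
    obtain ⟨y, hy, hyc⟩ := exists_commuting_conj (odd_card_relCore (Ce v)) hR hV.closure_pgroup
      (hRL.trans hLn)
      ((hKW.trans (F.K_le v)).trans (le_normalizer.trans (normalizer_le_normalizer_relCore 2 _)))
      (fun r hr w hw => ((F.mem_K hvD).mp (hKW hw)).2 r (hRL hr))
    have hyn : y ∈ normalizer (F.L v : Set G) := by
      refine (sup_le ?_ ?_ : R ⊔ OC v ≤ normalizer (F.L v : Set G)) hy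
      · exact hRL.trans le_normalizer
      · exact (F.L_comp v hvD).relCore_le_normalizer
    rw [← card_cj y R]
    refine IsMaxP.card_le hmx (hR.map _) (le_inf ?_ ?_)
    · have h3 := cj_mono (g := y) hRL
      rwa [mem_normalizer_iff_cj.mp hyn] at h3
    · intro r hr
      rw [mem_centralizer_iff]
      intro v' hv'
      exact (hyc r hr v' (subset_closure hv')).eq.symm
  refine ⟨T, V, hV, hlen2, hmax, T.2, hmem, key2, fun w hwD hwT => ?_⟩
  -- `w` commutes with `V`
  have hcomm : ∀ v ∈ V, Commute w v := by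
    intro v hv
    by_contra hne
    have hvD := hV.mem v hv
    obtain ⟨b, hbD, hbT, hbw, hbv⟩ := F.dd T.2 hwD hvD hwT (hmem v hv) hne
    have hb2 := F.ord b hbD
    obtain ⟨s, hsV, hsv⟩ : ∃ s ∈ V, s ≠ v := by
      by_contra hcon
      push Not at hcon
      have h3 : ∀ x ∈ V, x = v := hcon
      have h4 : V.length ≤ 1 := by
        match V, hV.nodup, h3 with
        | [], _, _ => simp
        | [a], _, _ => simp
        | a :: b :: V', hnd, h5 =>
          exfalso
          have e1 := h5 a (by simp)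
          have e2 := h5 b (by simp)
          rw [e1, e2] at hnd
          simp at hnd
      omega
    have hz := hV.z hv hsV (Ne.symm hsv)
    have hbs : Commute b s := key1 v hv b hbT hbv s hsV
    obtain ⟨hzb, hcmp⟩ := hz.inherit hbv hb2 hbs
    have hwb : w ∈ F.L b := (F.invol w hwD b hbw hb2).2
    have hws : Commute w s := F.comm_LK T.2 hbD hwb hwT hzb.mem (hmem s hsV)
    have hwM : w ∈ F.cmp s v := by
      rw [← hcmp]
      exact hzb.mem_cmp hwb (pow_of_order (F.ord w hwD)) hws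
    have hP := hz.isMaxP_cmp (key2 v hv) fun p hp => key1 v hv p hp.1 hp.2 s hsV
    have h3 := hP.2.2 ((T : Subgroup G) ⊓ F.cmp s v) (T.2.to_le inf_le_left) inf_le_right
      (le_inf inf_le_left hP.2.1)
    have h4 : w ∈ (T : Subgroup G) ⊓ F.L v := h3 ⟨hwT, hwM⟩
    exact hne (mem_Ce.mp (F.L_le hvD h4.2))
  by_contra hcon
  push Not at hcon
  have hz : ∀ v ∈ V, F.Z w v := by
    intro v hv
    have hne : v ≠ w := by
      rintro rfl
      exact hcon v hv (F.self_mem v hwD)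
    rcases F.split' (hV.mem v hv) hwD hne (hcomm v hv).symm with h3 | h3
    · exact absurd h3 (hcon v hv)
    · exact h3.symm
  have h3 := hmax (w :: V) (hV.cons hwD hz)
  rw [List.length_cons] at h3
  omega

theorem Block.cj {T : Subgroup G} {V : List G} (h : Block F T V) (g : G) :
    Block F (cj g T) (lcj g V) := by
  refine ⟨h.ind.cj g, by rw [length_lcj]; exact h.two, fun J hJ => ?_, h.pg.map _, ?_, ?_, ?_⟩
  · rw [length_lcj]; exact h.max J hJ
  · intro x hx
    obtain ⟨v, hv, rfl⟩ := mem_lcj.mp hx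
    exact conj_mem_cj (h.mem v hv)
  · intro x hx
    obtain ⟨v, hv, rfl⟩ := mem_lcj.mp hx
    rw [F.L_conj v (h.ind.mem v hv)]
    have e : IntrinsicBasic.cj g T ⊓ IntrinsicBasic.cj g (F.L v) =
        IntrinsicBasic.cj g (T ⊓ F.L v) := by
      ext y; rw [mem_inf, mem_cj, mem_cj, mem_cj, mem_inf]
    rw [e]
    exact (h.syl v hv).map_conj g
  · intro w hw hwT
    rw [mem_cj] at hwT
    have h3 := F.conj w hw g⁻¹
    rw [inv_inv] at h3
    obtain ⟨v, hv, hwv⟩ := h.cov _ h3 hwT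
    refine ⟨g * v * g⁻¹, mem_lcj.mpr ⟨v, hv, rfl⟩, ?_⟩
    rw [F.L_conj v (h.ind.mem v hv), mem_cj]
    exact hwv

theorem exists_block_of_sylow {u s : G} (h : F.Z u s) (T : Sylow 2 G) :
    ∃ V : List G, Block F (T : Subgroup G) V := by
  have h2 : Fact (Nat.Prime 2) := ⟨Nat.prime_two⟩
  obtain ⟨T₀, V, hV⟩ := exists_block h
  obtain ⟨g, hg⟩ := MulAction.exists_smul_eq G T₀ T
  refine ⟨lcj g V, ?_⟩
  have e : (T : Subgroup G) = IntrinsicBasic.cj g (T₀ : Subgroup G) := by
    rw [← hg]; rfl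
  rw [e]
  exact hV.cj g

end Frame

end Cfsg.Agent.Intrinsic.WOneA
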