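import Cfsg.Agent.Intrinsic.WOneA.PairEnd
import Cfsg.Agent.Intrinsic.FunctorFrame

/-!
S1738, section 5b: `Final.PairStmt` modulo Bender's theorem (S0222), Aschbacher's criterion (S1175) and the odd
order theorem (S0205).
-/

set_option autoImplicit false

namespace Cfsg.Agent.Intrinsic.WOneA.PairFinal

open Subgroup Cfsg

universe u

theorem pairStmt (hBen : BigBal.BenderSimple.{u})
    (hA : ∀ (G : Type u) [Group G] [Finite G] [IsSimpleGroup G], Asch G)
    (FT : ∀ (G : Type u) [Group G] [Finite G], Functor.OddSol G) : Final.PairStmt.{u} :=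
  PairEnd.pairStmt hBen hA fun G _ _ F _ _ h => FunctorFrame.hW (FT G) F h

end Cfsg.Agent.Intrinsic.WOneA.PairFinal
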