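import Cfsg.Agent.Intrinsic.BigBal
import Cfsg.Agent.Intrinsic.WOne.Base
import Cfsg.Agent.Intrinsic.WOneA.Frame

/-!
# The field `bal` of `WOneA.Frame` from `WOne.W1`
-/

set_option autoImplicit false

namespace Cfsg.Agent.Intrinsic.WOneA.Bal

open Subgroup Cfsg
open Cfsg.Agent.SignalizersComponents.PLayerAut
open Cfsg.Agent.SignalizersComponents.IntrinsicBasic
open Cfsg.Agent.Intrinsic.Basic Cfsg.Agent.Intrinsic.Cen Cfsg.Agent.Intrinsic.Quot
open Cfsg.Agent.Intrinsic.WOne

/-- big pump-ups have no strongly embedded subgroups modulo the core -/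
theorem no_se_pump.{u} {G : Type u} [Group G] [Finite G] (hBen : BigBal.BenderSimple.{u}) {n : ℕ} {u s : G}
    {X : Subgroup G} (h : IsPair n u X) (hss : s * s = 1) (hsu : s * u = u * s) (hf : Fixes s X)
    (hB : IsBig n u X s) (S : Subgroup (↥(pump s X) ⧸ oddCore ↥(pump s X))) : ¬ IsStronglyEmbedded S := by
  have hsC : s ∈ centralizer ({u} : Set G) := mem_centralizer_singleton_iff.mpr hsu
  have hM := pump_comp h hss hsu hf
  have hle := cen_le_pump h hss hsu hf
  have h1 := (isComp_cen h.comp hsC hss hf).1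
  rw [inf_comm] at h1
  exact BigBal.big_no_se hBen hB h.inv (pair_mem_cen h hsu) (isComp_inf h1 hM hle)
    ((cover_cen h.comp hsC hss hf).mpr h.cover) S

/-- `O(C(u)) ∩ C(s) ≤ O(C(s))` for a pair of type (0) with big pump-up -/
theorem bal_big.{u} {G : Type u} [Group G] [Finite G] (hBen : BigBal.BenderSimple.{u}) {n : ℕ} {u s : G}
    {X : Subgroup G} (h : IsPair n u X) (hss : s * s = 1) (hsu : s * u = u * s) (hf : Fixes s X)
    (hB : IsBig n u X s) {x : G} (hx : x ∈ core (centralizer ({u} : Set G))) (hxs : x * s = s * x) :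
    x ∈ core (centralizer ({s} : Set G)) :=
  BigBal.bal h hss hsu hf (pump_comp h hss hsu hf) (cen_le_pump h hss hsu hf) hB
    (no_se_pump hBen h hss hsu hf hB) hx hxs

/-- the field `bal` -/
theorem bal.{u} {G : Type u} [Group G] [Finite G] (hBen : BigBal.BenderSimple.{u}) {n : ℕ} {D : Set G}
    {L : G → Subgroup G} (h : WOne.W1 n D L)
    (h55 : ∀ u ∈ D, ∀ s ∈ D, s ≠ u → s * u = u * s → Fixes s (L u) → IsBig n u (L u) s) :
    ∀ u ∈ D, ∀ s ∈ D, u ≠ s → s ∈ cenMod (Ce u) (L u) → ∀ x ∈ OC u, Commute x s → x ∈ OC s := by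
  intro u hu s hs hne hsK x hx hxs
  have hsC : s ∈ centralizer ({u} : Set G) := cenMod_le _ _ hsK
  have hsu : s * u = u * s := mem_centralizer_singleton_iff.mp hsC
  have hf : Fixes s (L u) := ((h.pair hu).comp.fixes_iff hsC).mpr hsK
  exact bal_big hBen (h.pair hu) (h.pair hs).sq hsu hf (h55 u hu s hs hne.symm hsu hf) hx hxs.eq

end Cfsg.Agent.Intrinsic.WOneA.Bal
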