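import Cfsg.Agent.Intrinsic.WOneA.Step
import Cfsg.Agent.TwoFusion.StronglyEmbeddedBasic

/-!
S1738, section 5b.5: the commuting graph on `D` is connected (modulo Aschbacher's criterion S1175).
-/

set_option autoImplicit false
set_option linter.unusedSectionVars false

namespace Cfsg.Agent.Intrinsic.WOneA

open Subgroup Cfsg
open Cfsg.Agent.SignalizersComponents
open Cfsg.Agent.SignalizersComponents.PLayerAut
open Cfsg.Agent.SignalizersComponents.IntrinsicBasic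
open Cfsg.Agent.SignalizersComponents.RelSylow

/-- the conclusion of Aschbacher's criterion S1175 for `G` -/
def Asch (G : Type*) [Group G] : Prop :=
  ∀ (M : Subgroup G), M ≠ ⊤ → ∀ z : G, orderOf z = 2 → z ∈ M →
    (∃ S : Sylow 2 G, z ∈ S ∧ ∀ s ∈ S, Commute s z) →
    (∀ g : G, g * z * g⁻¹ ∈ M → g ∈ M) →
    (∀ g : G, Commute z (g * z * g⁻¹) → g * z * g⁻¹ ≠ z →
      Subgroup.centralizer ({z * (g * z * g⁻¹)} : Set G) ≤ M) →
    ∃ H : Subgroup G, Cfsg.IsStronglyEmbedded H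

namespace Frame

variable {G : Type*} [Group G] [Finite G] {F : Frame G} {V : List G}

/-- (h2) -/
theorem Block.mem_N {T : Sylow 2 G} (hB : Block F (T : Subgroup G) V) {z : G} (hz : z ∈ F.D)
    (hzT : z ∈ (T : Subgroup G)) {g : G} (hg : g * V.prod * g⁻¹ ∈ F.N z) : g ∈ F.N z := by
  have h2 : Fact (Nat.Prime 2) := ⟨Nat.prime_two⟩
  have hTN := pgroup_le_N T.2 (Con.refl (F := F) z) hz hzT
  have hx2 := hB.ind.orderOf_prod hB.ne_nil
  have hbp : IsPGroup 2 (zpowers (g * V.prod * g⁻¹)) := by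
    apply IsPGroup.of_card (n := 1)
    rw [Nat.card_zpowers, orderOf_cj, hx2]; norm_num
  obtain ⟨n, hn, hnT⟩ := (isMaxP_of_sylow_le T hTN).exists_conj_le hbp ((zpowers_le).mpr hg)
  have h3 : n * (g * V.prod * g⁻¹) * n⁻¹ ∈ (T : Subgroup G) := hnT ⟨_, mem_zpowers _, rfl⟩
  have e : n * (g * V.prod * g⁻¹) * n⁻¹ = (n * g) * V.prod * (n * g)⁻¹ := by group
  rw [e] at h3
  obtain ⟨c, hc, hcT⟩ := hB.exists_conj h3
  obtain ⟨v₀, V₀, hV₀⟩ := List.exists_cons_of_ne_nil hB.ne_nil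
  have hv₀ : v₀ ∈ V := by rw [hV₀]; simp
  have hconV : ∀ v ∈ V, F.Con z v := fun v hv =>
    (Con.refl (F := F) z).of_pgroup T.2 hz (hB.ind.mem v hv) hzT (hB.mem v hv)
  have hch : c * (n * g) ∈ F.N z :=
    mem_N_of_conj hz (hconV v₀ hv₀) (hTN (hcT v₀ hv₀))
  -- `C(b) ≤ N`
  have hJ : F.Ind (lcj (c * (n * g)) V) := hB.ind.cj _
  have hJp : (lcj (c * (n * g)) V).prod = (n * g) * V.prod * (n * g)⁻¹ := by
    rw [prod_lcj]
    have h4 := conj_eq_of_commute (mem_Ce.mp hc)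
    rw [← h4]; group
  have hcN : c ∈ F.N z := by
    refine hJ.Ce_le ?_ hz ?_ (by rw [hJp]; exact hc)
    · intro h4
      have h5 := length_lcj (c * (n * g)) V
      rw [h4] at h5
      have h6 := hB.two
      simp only [List.length_nil] at h5
      omega
    · intro j hj
      obtain ⟨v, hv, rfl⟩ := mem_lcj.mp hj
      exact (Con.refl (F := F) z).of_pgroup T.2 hz (F.conj v (hB.ind.mem v hv) _) hzT (hcT v hv)
  have h5 := (F.N z).mul_mem ((F.N z).inv_mem hn)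
    ((F.N z).mul_mem ((F.N z).inv_mem hcN) hch)
  have e2 : n⁻¹ * (c⁻¹ * (c * (n * g))) = g := by group
  rwa [e2] at h5

/-- (h3) -/
theorem Block.Ce_mul_le {T : Sylow 2 G} (hB : Block F (T : Subgroup G) V) {z : G} (hz : z ∈ F.D)
    (hzT : z ∈ (T : Subgroup G)) {g : G} (hc : Commute V.prod (g * V.prod * g⁻¹))
    (hne : g * V.prod * g⁻¹ ≠ V.prod) : Ce (V.prod * (g * V.prod * g⁻¹)) ≤ F.N z := by
  have h2 : Fact (Nat.Prime 2) := ⟨Nat.prime_two⟩
  obtain ⟨x, hx⟩ : ∃ x, x = V.prod := ⟨_, rfl⟩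
  have hx2 : orderOf x = 2 := hx ▸ hB.ind.orderOf_prod hB.ne_nil
  rw [← hx] at hc hne ⊢
  have hconT : ∀ w ∈ F.D, w ∈ (T : Subgroup G) → F.Con z w := fun w hw hwT =>
    (Con.refl (F := F) z).of_pgroup T.2 hz hw hzT hwT
  have hCx : Ce x ≤ F.N z := by
    rw [hx]
    exact hB.ind.Ce_le hB.ne_nil hz fun v hv => hconT v (hB.ind.mem v hv) (hB.mem v hv)
  have hTx : (T : Subgroup G) ≤ Ce x := fun t ht => by
    rw [mem_Ce, hx]; exact hB.commute ht
  have hyp : IsPGroup 2 (zpowers (g * x * g⁻¹)) := by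
    apply IsPGroup.of_card (n := 1)
    rw [Nat.card_zpowers, orderOf_cj, hx2]; norm_num
  obtain ⟨c, hcx, hcT⟩ := (isMaxP_of_sylow_le T hTx).exists_conj_le hyp
    ((zpowers_le).mpr (mem_Ce.mpr hc.symm))
  have h3 : c * (g * x * g⁻¹) * c⁻¹ ∈ (T : Subgroup G) := hcT ⟨_, mem_zpowers _, rfl⟩
  have e : c * (g * x * g⁻¹) * c⁻¹ = (c * g) * x * (c * g)⁻¹ := by group
  rw [e] at h3
  have hcx' : c * x * c⁻¹ = x := conj_eq_of_commute (mem_Ce.mp hcx)
  obtain ⟨d, hd, hdT⟩ := hB.exists_conj (h := c * g) (by rw [← hx]; exact h3)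
  rw [← hx] at hd
  have hJ : F.Ind (lcj (d * (c * g)) V) := hB.ind.cj _
  have hJp : (lcj (d * (c * g)) V).prod = (c * g) * x * (c * g)⁻¹ := by
    rw [prod_lcj, ← hx]
    have h4 := conj_eq_of_commute (mem_Ce.mp hd)
    rw [← h4]; group
  have hJT : ∀ j ∈ lcj (d * (c * g)) V, j ∈ (T : Subgroup G) := by
    intro j hj
    obtain ⟨v, hv, rfl⟩ := mem_lcj.mp hj
    exact hdT v hv
  obtain ⟨J', hJ', hJ'T, hprod⟩ := hB.mul hB.ind hB.mem hJ hJT fun v hv j hj =>
    (hB.commD (hJ.mem j hj) (hJT j hj) hv).symm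
  rw [hJp, ← hx] at hprod
  have hprod' : J'.prod = c * (x * (g * x * g⁻¹)) * c⁻¹ := by
    rw [hprod]
    calc x * ((c * g) * x * (c * g)⁻¹) = (c * x * c⁻¹) * ((c * g) * x * (c * g)⁻¹) := by rw [hcx']
      _ = c * (x * (g * x * g⁻¹)) * c⁻¹ := by group
  have hne' : J' ≠ [] := by
    rintro rfl
    rw [List.prod_nil] at hprod'
    have h5 : x * (g * x * g⁻¹) = 1 := by
      have := congrArg (fun y => c⁻¹ * y * c) hprod'
      simp only [mul_one, inv_mul_cancel] at this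
      rw [this]; group
    apply hne
    rw [← inv_eq_of_order hx2]
    rw [inv_eq_of_order hx2]
    have h6 := eq_inv_of_mul_eq_one_right h5
    rw [h6, inv_eq_of_order hx2]
  have hle := hJ'.Ce_le hne' hz fun j hj => hconT j (hJ'.mem j hj) (hJ'T j hj)
  intro y hy
  have hcy : c * y * c⁻¹ ∈ F.N z := by
    apply hle
    rw [mem_Ce, hprod']
    have := mem_Ce.mp hy
    exact (Commute.map this (MulAut.conj c).toMonoidHom : _)
  have hcN := hCx hcx
  have := (F.N z).mul_mem ((F.N z).mul_mem ((F.N z).inv_mem hcN) hcy) hcN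
  have e3 : c⁻¹ * (c * y * c⁻¹) * c = y := by group
  rwa [e3] at this

/-- 5b.5: `N = G` -/
theorem N_eq_top {u s : G} (h : F.Z u s) (hA : Asch G) {z : G} (hz : z ∈ F.D) : F.N z = ⊤ := by
  have h2 : Fact (Nat.Prime 2) := ⟨Nat.prime_two⟩
  by_contra hN
  have hzp : IsPGroup 2 (zpowers z) := by
    apply IsPGroup.of_card (n := 1)
    rw [Nat.card_zpowers, F.ord z hz]; norm_num
  obtain ⟨T, hT⟩ := hzp.exists_le_sylow
  have hzT : z ∈ (T : Subgroup G) := hT (mem_zpowers z)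
  obtain ⟨V, hB⟩ := exists_block_of_sylow h T
  have hTN := pgroup_le_N T.2 (Con.refl (F := F) z) hz hzT
  have hx2 : orderOf V.prod = 2 := hB.ind.orderOf_prod hB.ne_nil
  obtain ⟨H, hH⟩ := hA (F.N z) hN V.prod hx2 (hTN hB.prod_mem)
    ⟨T, hB.prod_mem, fun t ht => hB.commute ht⟩ (fun g hg => hB.mem_N hz hzT hg)
    (fun g hc hne => hB.Ce_mul_le hz hzT hc hne)
  obtain ⟨g, hg⟩ := isConj_iff.mp (TwoFusion.StronglyEmbeddedBasic.isConj_of_involutions hH u
    (u * s) (F.ord u h.left) h.orderOf_mul)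
  apply F.prod u h.left s h.right h.ne h.mem
  rw [← hg]
  exact F.conj u h.left g

/-- the commuting graph on `D` is connected -/
theorem con {u s : G} (h : F.Z u s) (hA : Asch G) {z w : G} (hz : z ∈ F.D) (hw : w ∈ F.D) :
    F.Con z w := by
  obtain ⟨g, hg⟩ := F.one_class z hz w hw
  have h1 : g ∈ F.N z := by rw [N_eq_top h hA hz]; exact mem_top g
  rw [← hg]
  exact h1

end Frame

end Cfsg.Agent.Intrinsic.WOneA
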