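import Cfsg.Agent.Intrinsic.WOneA.Block

/-!
S1738, section 5b.4: fusion of products of independent sets.
-/

set_option autoImplicit false
set_option linter.unusedSectionVars false

namespace Cfsg.Agent.Intrinsic.WOneA

open Subgroup Cfsg
open Cfsg.Agent.SignalizersComponents
open Cfsg.Agent.SignalizersComponents.PLayerAut
open Cfsg.Agent.SignalizersComponents.IntrinsicBasic
open Cfsg.Agent.SignalizersComponents.RelSylow

namespace Frame

variable {G : Type*} [Group G] [Finite G] {F : Frame G} {T : Subgroup G} {V : List G}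

namespace Block

theorem exists_other (hB : Block F T V) (v : G) : ∃ s ∈ V, s ≠ v := by
  by_contra hcon
  push Not at hcon
  have h3 : ∀ x ∈ V, x = v := hcon
  have h4 : V.length ≤ 1 := by
    match V, hB.ind.nodup, h3 with
    | [], _, _ => simp
    | [a], _, _ => simp
    | a :: b :: V', hnd, h5 =>
      exfalso
      have e1 := h5 a (by simp)
      have e2 := h5 b (by simp)
      rw [e1, e2] at hnd
      simp at hnd
  have := hB.two
  omega

theorem commV (hB : Block F T V) {v a v' : G} (hv : v ∈ V) (haT : a ∈ T) (haL : a ∈ F.L v)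
    (hv' : v' ∈ V) : Commute a v' := by
  by_cases e : v' = v
  · rw [e]; exact mem_Ce.mp (F.L_le (hB.ind.mem v hv) haL)
  · exact F.comm_LK hB.pg (hB.ind.mem v hv) haL haT (hB.ind.z hv hv' (Ne.symm e)).mem
      (hB.mem v' hv')

/-- elements of `D ∩ T` in different blocks form a pair of type (0) -/
theorem diff (hB : Block F T V) {v v' w w' : G} (hv : v ∈ V) (hv' : v' ∈ V) (hne : v ≠ v')
    (hw : w ∈ F.D) (hwT : w ∈ T) (hwv : w ∈ F.L v) (hw' : w' ∈ F.D) (hwT' : w' ∈ T)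
    (hwv' : w' ∈ F.L v') : F.Z w w' := by
  have h1 := ((hB.ind.z hv hv' hne).inherit hwv (F.ord w hw) (hB.commV hv hwT hwv hv')).1
  have h2 : Commute w' w := F.comm_LK hB.pg (hB.ind.mem v' hv') hwv' hwT' h1.K_right hwT
  exact (h1.symm.inherit hwv' (F.ord w' hw') h2).1.symm

theorem same (hB : Block F T V) {v w w' : G} (hv : v ∈ V)
    (hw : w ∈ F.D) (hwT : w ∈ T) (hwv : w ∈ F.L v) (hw' : w' ∈ F.D) (hwT' : w' ∈ T)
    (hwv' : w' ∈ F.L v) (hc : Commute w w') : w' ∈ F.L w := by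
  obtain ⟨s, hs, hsv⟩ := hB.exists_other v
  have hz := hB.ind.z hv hs (Ne.symm hsv)
  obtain ⟨h1, h2⟩ := hz.inherit hwv (F.ord w hw) (hB.commV hv hwT hwv hs)
  have h3 : w' ∈ F.cmp s w := by
    rw [h2]
    exact hz.mem_cmp hwv' (pow_of_order (F.ord w' hw')) (hB.commV hv hwT' hwv' hs)
  exact F.of_cmp w hw s h1.mem (F.ord s h1.right) w' h3 1 (pow_of_order (F.ord w' hw')) hc.symm

theorem inf_cmp (hB : Block F T V) {v s : G} (hv : v ∈ V) (hs : s ∈ V) (hsv : s ≠ v) :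
    T ⊓ F.cmp s v ≤ T ⊓ F.L v := by
  have hz := hB.ind.z hv hs (Ne.symm hsv)
  have hP := hz.isMaxP_cmp (hB.syl v hv) fun p hp => hB.commV hv hp.1 hp.2 hs
  exact hP.2.2 _ (hB.pg.to_le inf_le_left) inf_le_right (le_inf inf_le_left hP.2.1)

/-- `v ∈ V` is the only involution of `T ∩ L v` commuting with it -/
theorem eq_of_conj (hB : Block F T V) {v b : G} (hv : v ∈ V) (hb : b ∈ T)
    (h : b * v * b⁻¹ ∈ F.L v) : b * v * b⁻¹ = v := by
  by_contra hne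
  have hvD := hB.ind.mem v hv
  obtain ⟨v₁, hv₁⟩ : ∃ v₁, v₁ = b * v * b⁻¹ := ⟨_, rfl⟩
  rw [← hv₁] at h hne
  have hv₁D : v₁ ∈ F.D := hv₁ ▸ F.conj v hvD b
  have hv₁2 := F.ord v₁ hv₁D
  have hv₁T : v₁ ∈ T := hv₁ ▸ T.mul_mem (T.mul_mem hb (hB.mem v hv)) (T.inv_mem hb)
  obtain ⟨s, hs, hsv⟩ := hB.exists_other v
  have hz := hB.ind.z hv hs (Ne.symm hsv)
  have hc : Commute v₁ s := hB.commV hv hv₁T h hs
  obtain ⟨h1, h2⟩ := hz.inherit h hv₁2 hc
  have hle : T ⊓ F.L v₁ ≤ T ⊓ F.L v := by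
    refine le_trans ?_ (hB.inf_cmp hv hs hsv)
    rintro x ⟨hxT, hxL⟩
    refine ⟨hxT, ?_⟩
    obtain ⟨n, hn⟩ := two_pow_of_mem hB.pg hxT
    rw [← h2]
    exact h1.mem_cmp hxL hn (F.comm_LK hB.pg hv₁D hxL hxT h1.mem (hB.mem s hs))
  have hcard : Nat.card (T ⊓ F.L v₁ : Subgroup G) = Nat.card (T ⊓ F.L v : Subgroup G) := by
    have e : T ⊓ F.L v₁ = IntrinsicBasic.cj b (T ⊓ F.L v) := by
      have hbT : IntrinsicBasic.cj b T = T := cj_eq_self_of_mem hb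
      rw [hv₁, F.L_conj v hvD]
      conv_lhs => rw [← hbT]
      ext y; rw [mem_inf, mem_cj, mem_cj, mem_cj, mem_inf]
    rw [e, card_cj]
  have heq : T ⊓ F.L v₁ = T ⊓ F.L v := Subgroup.eq_of_le_of_card_ge hle hcard.ge
  obtain ⟨p, hp, hpc⟩ := F.sylow v hvD v₁ h hv₁2 hne _ (hB.syl v hv)
  rw [← heq] at hp
  exact hpc (mem_Ce.mp (F.L_le hv₁D hp.2))

end Block

/-- the setting of 5b.4 -/
structure Fus (F : Frame G) (T T' : Subgroup G) (b : G) (J : List G) : Prop where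
  pg' : IsPGroup 2 T'
  hb : b ∈ T
  b2 : orderOf b = 2
  ind : F.Ind J
  prod : J.prod = b
  mem' : ∀ j ∈ J, j ∈ T'
  cen : ∀ x ∈ T, Commute x b → x ∈ T'

variable {T' : Subgroup G} {b : G} {J : List G}

/-- 5b.4, step 1 -/
theorem Fus.no_swap (h : Fus F T T' b J) {v : G} (hvT : v ∈ T)
    (hz : F.Z v (b * v * b⁻¹)) : False := by
  obtain ⟨v', hv'⟩ : ∃ v', v' = b * v * b⁻¹ := ⟨_, rfl⟩
  rw [← hv'] at hz
  have hvD := hz.left
  have hv'D := hz.right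
  have hbb := mul_self_of_order h.b2
  have hbi := inv_eq_of_order h.b2
  obtain ⟨N, hN, hcN⟩ := F.diag b h.b2 v hvD (by rw [← hv']; exact hz.ne.symm)
    (by rw [← hv']; exact hz.mem)
  rw [← hv'] at hcN
  obtain ⟨c, hc⟩ : ∃ c, c = v * v' := ⟨_, rfl⟩
  rw [← hc] at hcN
  have hc2 : orderOf c = 2 := hc ▸ hz.orderOf_mul
  have hcD : c ∉ F.D := hc ▸ F.prod v hvD v' hv'D hz.ne hz.mem
  have hbv' : b * v' * b⁻¹ = v := by
    rw [hv', hbi]
    calc b * (b * v * b) * b = (b * b) * v * (b * b) := by group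
      _ = v := by rw [hbb, one_mul, mul_one]
  have hbc : b * c * b⁻¹ = c := by
    rw [hc]
    calc b * (v * v') * b⁻¹ = (b * v * b⁻¹) * (b * v' * b⁻¹) := by group
      _ = v' * v := by rw [hbv', ← hv']
      _ = v * v' := hz.comm.eq.symm
  have hcb : Commute c b := (commute_of_conj_eq hbc).symm
  have hcT : c ∈ T := by
    rw [hc, hv']
    exact T.mul_mem hvT (T.mul_mem (T.mul_mem h.hb hvT) (T.inv_mem h.hb))
  have hcT' : c ∈ T' := h.cen c hcT hcb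
  have hcK : ∀ j ∈ J, c ∈ F.K j := by
    intro j hj
    have hjD := h.ind.mem j hj
    have hbK : b ∈ F.K j := h.prod ▸ h.ind.prod_K hj
    have hM := F.cmp_comp j hjD b hbK h.b2
    have hne : F.cmp b j ≠ N := by
      rintro e
      rw [← e] at hcN
      exact hcD (F.cmp_inv j hjD b hbK h.b2 c hcN hc2)
    have h1 : c ∈ cenMod (Ce b) (F.cmp b j) := hM.le_cenMod hN hne hcN
    have hjM : j ∈ F.cmp b j := F.self_mem_cmp hjD hbK h.b2
    have h2 : Commute j c :=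
      IntrinsicLemmaC.comm_of_cenMod hM.le h.pg' hjM h1 (h.mem' j hj) hcT'
    exact F.cmp_cen j hjD b hbK h.b2 c hc2 h2.symm h1
  have hcKv : c ∈ F.K v := hc ▸ (F.K v).mul_mem (F.self_mem_K hvD) hz.mem
  have hcKv' : c ∈ F.K v' := hc ▸ (F.K v').mul_mem hz.K_right (F.self_mem_K hv'D)
  have hMv := F.cmp_comp v hvD c hcKv hc2
  have hbn : b ∈ normalizer (F.cmp c v : Set G) := by
    rw [← h.prod]
    apply list_prod_mem
    intro j hj
    have hjD := h.ind.mem j hj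
    exact normalizes hMv (F.cmp_comp j hjD c (hcK j hj) hc2) (F.self_mem_cmp hjD (hcK j hj) hc2)
  have h3 := F.cmp_conj v hvD c hcKv hc2 b
  rw [hbc, ← hv', mem_normalizer_iff_cj.mp hbn] at h3
  exact hz.cmp_ne hc2 hcKv hcKv' h3.symm

theorem Fus.comm_V (h : Fus F T T' b J) (hB : Block F T V) {v : G} (hv : v ∈ V) :
    Commute b v := by
  have hvD := hB.ind.mem v hv
  have hvT := hB.mem v hv
  have h1D : b * v * b⁻¹ ∈ F.D := F.conj v hvD b
  have h1T : b * v * b⁻¹ ∈ T := T.mul_mem (T.mul_mem h.hb hvT) (T.inv_mem h.hb)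
  obtain ⟨v', hv', hvv'⟩ := hB.cov _ h1D h1T
  have e : v' = v := by
    by_contra hne
    exact h.no_swap hvT (hB.diff hv hv' (Ne.symm hne) hvD hvT (F.self_mem v hvD) h1D h1T hvv')
  rw [e] at hvv'
  exact commute_of_conj_eq (hB.eq_of_conj hv h.hb hvv')

/-- 5b.4, step 2 -/
theorem Fus.mem_of_block (h : Fus F T T' b J) (hB : Block F T V) {V' : List G}
    (hB' : Block F T' V') {v : G} (hv : v ∈ V) {j₀ : G} (hj₀ : j₀ ∈ J) {p : G} (hp : p ∈ V')
    (hvp : v ∈ F.L p) (hjp : j₀ ∈ F.L p) : j₀ ∈ T := by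
  have hvD := hB.ind.mem v hv
  have hvT := hB.mem v hv
  have hbv := h.comm_V hB hv
  have hvT' : v ∈ T' := h.cen v hvT hbv.symm
  have hj₀D := h.ind.mem j₀ hj₀
  have hj₀T' := h.mem' j₀ hj₀
  obtain ⟨J', hJ', hperm, hprod⟩ := h.ind.erase hj₀
  obtain ⟨_, hzJ', hJ'i⟩ := hJ'.of_cons
  have hJ'J : ∀ j ∈ J', j ∈ J := fun j hj => hperm.mem_iff.mpr (List.mem_cons_of_mem _ hj)
  -- the other members are of type (0) with `v`
  have hK : ∀ j ∈ J', j ∈ F.K v := by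
    intro j hj
    have hjD := h.ind.mem j (hJ'J j hj)
    have hjT' := h.mem' j (hJ'J j hj)
    obtain ⟨q, hq, hjq⟩ := hB'.cov j hjD hjT'
    have hqp : q ≠ p := by
      rintro rfl
      exact (hzJ' j hj).not_mem (hB'.same hq hj₀D hj₀T' hjp hjD hjT' hjq (hzJ' j hj).comm)
    exact (hB'.diff hp hq (Ne.symm hqp) hvD hvT' hvp hjD hjT' hjq).mem
  obtain ⟨k₀, hk₀⟩ : ∃ k₀, k₀ = J'.prod := ⟨_, rfl⟩
  have hk₀K : k₀ ∈ F.K v := hk₀ ▸ list_prod_mem hK
  have hbk : b = j₀ * k₀ := by rw [← h.prod, hprod, hk₀]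
  have hk₀v : Commute k₀ v := mem_Ce.mp (F.K_le v hk₀K)
  have hj₀k₀ : Commute j₀ k₀ := hk₀ ▸ commute_prod fun j hj => (hzJ' j hj).comm
  have hk₀sq : k₀ * k₀ = 1 := hk₀ ▸ hJ'i.sq
  have hj₀eq : j₀ = b * k₀ := by rw [hbk, mul_assoc, hk₀sq, mul_one]
  have hj₀v : Commute j₀ v := by rw [hj₀eq]; exact hbv.mul_left hk₀v
  have hj₀L : j₀ ∈ F.L v := hB'.same hp hvD hvT' hvp hj₀D hj₀T' hjp hj₀v.symm
  have hbj₀ : Commute b j₀ := by
    rw [hbk]; exact (Commute.refl j₀).mul_left hj₀k₀.symm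
  -- `X = (T ∩ L v) (O_v ∩ L v)`
  obtain ⟨P, hP⟩ : ∃ P, P = T ⊓ F.L v := ⟨_, rfl⟩
  obtain ⟨N, hN⟩ : ∃ N, N = OC v ⊓ F.L v := ⟨_, rfl⟩
  have hPmax : IsMaxP 2 (F.L v) P := hP ▸ hB.syl v hv
  have hCn : Ce v ≤ normalizer (F.L v : Set G) := by
    intro c hc
    rw [mem_normalizer_iff_cj, ← F.L_conj v hvD]
    congr 1
    exact conj_eq_of_commute (mem_Ce.mp hc)
  have hOn : Ce v ≤ normalizer (OC v : Set G) :=
    le_normalizer.trans (normalizer_le_normalizer_relCore 2 _)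
  have hNn : Ce v ≤ normalizer (N : Set G) := by
    intro c hc
    have h1 := mem_normalizer_iff_cj.mp (hCn hc)
    have h2 := mem_normalizer_iff_cj.mp (hOn hc)
    rw [mem_normalizer_iff_cj, hN]
    ext x
    rw [mem_cj, mem_inf, mem_inf, ← mem_cj, ← mem_cj, h1, h2]
  have hLC := F.L_le hvD
  have hbC : b ∈ Ce v := mem_Ce.mpr hbv
  have hNodd : Odd (Nat.card N) :=
    Odd.of_dvd_nat (odd_card_relCore (Ce v)) (card_dvd_of_le (hN ▸ inf_le_left))
  have hPb : ∀ x ∈ P, b * x * b⁻¹ ∈ P := by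
    intro x hx
    rw [hP] at hx ⊢
    refine ⟨T.mul_mem (T.mul_mem h.hb hx.1) (T.inv_mem h.hb), ?_⟩
    exact (mem_normalizer_iff.mp (hCn hbC) x).mp hx.2
  -- `j₀` normalizes `P ⊔ N`
  have hPN : P ≤ normalizer (N : Set G) := (hPmax.2.1.trans hLC).trans hNn
  have hk₀N : ∀ x ∈ F.L v, x⁻¹ * (k₀ * x * k₀⁻¹) ∈ N := by
    intro x hx
    rw [hN]
    refine ⟨((F.mem_K hvD).mp hk₀K).2 x hx, ?_⟩
    refine (F.L v).mul_mem ((F.L v).inv_mem hx) ?_
    exact (mem_normalizer_iff.mp (hCn (F.K_le v hk₀K)) x).mp hx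
  have hj₀P : ∀ x ∈ P, j₀ * x * j₀⁻¹ ∈ P ⊔ N := by
    intro x hx
    have hxL := hPmax.2.1 hx
    have e : j₀ * x * j₀⁻¹ = (b * x * b⁻¹) * (b * (x⁻¹ * (k₀ * x * k₀⁻¹)) * b⁻¹) := by
      rw [hj₀eq]; group
    rw [e]
    refine mul_mem (mem_sup_left (hPb x hx)) (mem_sup_right ?_)
    exact (mem_normalizer_iff.mp (hNn hbC) _).mp (hk₀N x hxL)
  have hj₀n : j₀ ∈ normalizer ((P ⊔ N : Subgroup G) : Set G) := by
    have hle : IntrinsicBasic.cj j₀ (P ⊔ N) ≤ P ⊔ N := by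
      rw [cj_def, Subgroup.map_sup]
      refine sup_le ?_ ?_
      · rintro _ ⟨x, hx, rfl⟩
        exact hj₀P x hx
      · have h1 := mem_normalizer_iff_cj.mp (hNn (hLC hj₀L))
        rw [cj_def] at h1
        rw [h1]
        exact le_sup_right
    rw [mem_normalizer_iff_cj]
    exact Subgroup.eq_of_le_of_card_ge hle (card_cj j₀ _).ge
  -- so `j₀ ∈ P ⊔ N`
  have hPNL : P ⊔ N ≤ F.L v := sup_le hPmax.2.1 (hN ▸ inf_le_right)
  have hj₀PN : j₀ ∈ P ⊔ N := by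
    obtain ⟨W, hW⟩ : ∃ W, W = (P ⊔ N) ⊔ zpowers j₀ := ⟨_, rfl⟩
    have hWL : W ≤ F.L v := hW ▸ sup_le hPNL ((zpowers_le).mpr hj₀L)
    have hWn : W ≤ normalizer ((P ⊔ N : Subgroup G) : Set G) :=
      hW ▸ sup_le le_normalizer ((zpowers_le).mpr hj₀n)
    have hPNW : P ⊔ N ≤ W := hW ▸ le_sup_left
    have hPW : IsMaxP 2 W P :=
      ⟨hPmax.1, le_sup_left.trans hPNW, fun R h1 h2 h3 => hPmax.2.2 R h1 (h2.trans hWL) h3⟩
    have hidx : ¬ 2 ∣ (P ⊔ N).relIndex W := by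
      have : Fact (Nat.Prime 2) := ⟨Nat.prime_two⟩
      have h1 := hPW.not_dvd_index
      rw [← Subgroup.relIndex_mul_relIndex P (P ⊔ N) W le_sup_left hPNW] at h1
      exact fun h2 => h1 (dvd_mul_of_dvd_right h2 _)
    have hj₀W : j₀ ∈ W := hW ▸ mem_sup_right (mem_zpowers j₀)
    have hnorm : ((P ⊔ N).subgroupOf W).Normal := normal_subgroupOf_of_le_normalizer hWn
    have h1 : (QuotientGroup.mk' ((P ⊔ N).subgroupOf W) ⟨j₀, hj₀W⟩) = 1 := by
      have h2 : orderOf (QuotientGroup.mk' ((P ⊔ N).subgroupOf W) ⟨j₀, hj₀W⟩) ∣ 2 := by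
        apply orderOf_dvd_of_pow_eq_one
        rw [← map_pow]
        have : (⟨j₀, hj₀W⟩ : W) ^ 2 = 1 := by
          apply Subtype.ext
          rw [pow_two]
          exact mul_self_of_order (F.ord j₀ hj₀D)
        rw [this, map_one]
      have h3 : orderOf (QuotientGroup.mk' ((P ⊔ N).subgroupOf W) ⟨j₀, hj₀W⟩) ∣
          (P ⊔ N).relIndex W := orderOf_dvd_natCard _
      rcases (Nat.dvd_prime Nat.prime_two).mp h2 with h4 | h4
      · exact orderOf_eq_one_iff.mp h4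
      · rw [h4] at h3; exact absurd h3 hidx
    have h2 := (QuotientGroup.eq_one_iff _).mp h1
    exact h2
  obtain ⟨τ, hτ, o, ho, hτo⟩ := mem_sup_of_normalizes hPN hj₀PN
  -- `τ` commutes with `b`
  have hτb : Commute τ b := by
    have h1 : τ⁻¹ * (b * τ * b⁻¹) ∈ N := by
      have h2 : b * j₀ * b⁻¹ = j₀ := conj_eq_of_commute hbj₀
      rw [← hτo] at h2
      have h3 : b * o * b⁻¹ ∈ N := (mem_normalizer_iff.mp (hNn hbC) o).mp ho
      have e : τ⁻¹ * (b * τ * b⁻¹) = o * (b * o * b⁻¹)⁻¹ := by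
        have h4 : b * τ * b⁻¹ = τ * o * (b * o * b⁻¹)⁻¹ := by
          calc b * τ * b⁻¹ = (b * (τ * o) * b⁻¹) * (b * o * b⁻¹)⁻¹ := by group
            _ = τ * o * (b * o * b⁻¹)⁻¹ := by rw [h2]
        rw [h4]; group
      rw [e]
      exact N.mul_mem ho (N.inv_mem h3)
    have h2 : τ⁻¹ * (b * τ * b⁻¹) ∈ P := P.mul_mem (P.inv_mem hτ) (hPb τ hτ)
    obtain ⟨k, hk⟩ := two_pow_of_mem hPmax.1 h2
    have h3 := eq_one_of_mem_odd hNodd h1 hk
    exact (commute_of_conj_eq (inv_mul_eq_one.mp h3).symm).symm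
  have hτT : τ ∈ T := by rw [hP] at hτ; exact hτ.1
  have hτT' : τ ∈ T' := h.cen τ hτT hτb
  have hoT' : o ∈ T' := by
    have e : o = τ⁻¹ * j₀ := by rw [← hτo]; group
    rw [e]
    exact T'.mul_mem (T'.inv_mem hτT') hj₀T'
  obtain ⟨k, hk⟩ := two_pow_of_mem h.pg' hoT'
  have ho1 := eq_one_of_mem_odd hNodd ho hk
  rw [ho1, mul_one] at hτo
  rw [← hτo]
  exact hτT

/-- 5b.4 -/
theorem Fus.mem (h : Fus F T T' b J) (hB : Block F T V) {V' : List G}
    (hB' : Block F T' V') : ∀ j ∈ J, j ∈ T := by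
  intro j hj
  have hjD := h.ind.mem j hj
  have hjT' := h.mem' j hj
  obtain ⟨q, hq, hjq⟩ := hB'.cov j hjD hjT'
  by_contra hcon
  have hz : ∀ v ∈ V, F.Z j v := by
    intro v hv
    have hvD := hB.ind.mem v hv
    have hvT' : v ∈ T' := h.cen v (hB.mem v hv) (h.comm_V hB hv).symm
    obtain ⟨p, hp, hvp⟩ := hB'.cov v hvD hvT'
    have hpq : q ≠ p := by
      rintro rfl
      exact hcon (h.mem_of_block hB hB' hv hj hp hvp hjq)
    exact hB'.diff hq hp hpq hjD hjT' hjq hvD hvT' hvp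
  have h3 := hB.max (j :: V) (hB.ind.cons hjD hz)
  rw [List.length_cons] at h3
  omega

end Frame

end Cfsg.Agent.Intrinsic.WOneA
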