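import Cfsg.Agent.Intrinsic.WOneA.OfWOne
import Cfsg.Agent.Intrinsic.WOneA.Bal
import Cfsg.Agent.Intrinsic.WOneA.OfDiag
import Cfsg.Agent.Intrinsic.WOneA.Comp
import Cfsg.Agent.Intrinsic.WOne.Five
import Cfsg.Agent.Intrinsic.Final

/-!
S1738: the record `Frame` from the world W1.
-/

set_option autoImplicit false
set_option linter.unusedSectionVars false

namespace Cfsg.Agent.Intrinsic.WOneA.Glue

open Subgroup Cfsg
open Cfsg.Agent.SignalizersComponents
open Cfsg.Agent.SignalizersComponents.PLayerAut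
open Cfsg.Agent.SignalizersComponents.IntrinsicBasic
open Cfsg.Agent.SignalizersComponents.RelSylow
open Cfsg.Agent.Intrinsic.Basic Cfsg.Agent.Intrinsic.Cen Cfsg.Agent.Intrinsic.Quot
open Cfsg.Agent.Intrinsic.WOne
open Cfsg.Agent.Intrinsic.WOneA.OfWOne

universe u

variable {G : Type u} [Group G] [Finite G] {n : ℕ} {D : Set G} {L : G → Subgroup G}

/-- (SE0) for the big pump-ups -/
def Se (D : Set G) (L : G → Subgroup G) : Prop :=
  ∀ u ∈ D, ∀ s ∈ D, u ≠ s → s ∈ cenMod (Ce u) (L u) → OC s = ⊥ → ∀ S : Set G, u ∈ S →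
    (∀ t ∈ S, ∀ t' ∈ pump s (L u), orderOf t' = 2 → Commute t t' → t' ∈ S) →
    ∀ t ∈ pump s (L u), orderOf t = 2 → t ∈ S

/-- the record `Frame` from the world W1 -/
noncomputable def frame (hBen : BigBal.BenderSimple.{u}) (h : W1 n D L) (hSe : Se D L) :
    Frame G where
  D := D
  L := L
  cmp := cmpF L
  ord := ord h
  conj := fun _ hu g => h.conj hu g
  one_class := fun _ hu _ hv => h.one_class hu hv
  L_conj := fun _ hu g => h.L_conj hu g
  L_comp := fun _ hu => (h.comp hu).tc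
  self_mem := fun _ hu => h.mem hu
  invol := invol h
  inf_eq := inf_eq h
  split := fun _ hu _ hv hc => (h.split hu hv hc.symm.eq).imp id fun hf =>
    (mem_K h hu).mpr ⟨hc.symm.eq, hf⟩
  symm := symm h
  prod := fun u hu v hv hne hK hD => by
    obtain ⟨h1, h2⟩ := (mem_K h hu).mp hK
    refine h.mul_notMem hu hv hne.symm h1 h2 ?_
    rw [h1]; exact hD
  exists_inv := OfDiag.exists_inv h
  sylow := OfDiag.sylow h
  cmp_comp := cmp_comp h
  cmp_self := fun u _ => cmpF_self L u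
  cmp_conj := cmp_conj h
  mem_cmp := mem_cmp h
  of_cmp := of_cmp h
  cmp_inv := cmp_inv h
  cmp_cen := cmp_cen h
  big := big_of h fun hu hs hsu hus hf => h.isBig_of_zero hu hs hsu hus hf
  small := small h
  diag := OfDiag.diag h
  bal := Bal.bal hBen h fun _ hu _ hs hsu hus hf => h.isBig_of_zero hu hs hsu hus hf
  se := by
    intro u hu s hs hne hK hO S hS hstep t ht ht2
    rw [cmpF_of_ne L hne.symm] at hstep ht
    exact hSe u hu s hs hne hK hO S hS hstep t ht ht2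

/-- section 5b -/
theorem pairStmt (hBen : BigBal.BenderSimple.{u})
    (hA : ∀ (G : Type u) [Group G] [Finite G] [IsSimpleGroup G], Asch G)
    (hSe : ∀ (G : Type u) [Group G] [Finite G] (n : ℕ) (D : Set G) (L : G → Subgroup G),
      W1 n D L → Se D L)
    (hW : ∀ (G : Type u) [Group G] [Finite G] (F : Frame G) (u s : G), F.Z u s →
      ∃ W : G → Subgroup G, (∀ u ∈ F.D, Odd (Nat.card (W u))) ∧ (∀ u ∈ F.D, OC u ≤ W u) ∧
      (∀ u ∈ F.D, ∀ g, W (g * u * g⁻¹) = cj g (W u)) ∧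
      (∀ u ∈ F.D, ∀ v ∈ F.D, Commute u v → W u = W v)) : Final.PairStmt.{u} := by
  intro G _ _ _ n D L h ⟨u, hu, v, hv, hne, hc, hf⟩
  obtain ⟨F, hF⟩ : ∃ F : Frame G, F = frame hBen h (hSe G n D L h) := ⟨_, rfl⟩
  have hz : F.Z u v := by
    rw [hF]
    exact ⟨hu, hv, hne, (mem_K h hu).mpr ⟨hc.symm, hf⟩⟩
  exact F.false_of_frame hz (hA G) (hW G F u v hz)

end Cfsg.Agent.Intrinsic.WOneA.Glue
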