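import Cfsg.Agent.Intrinsic.WOneA.Pairs
import Cfsg.Agent.Intrinsic.Lifting

/-!
S1738, section 5b: independent lists (lists of elements which are pairwise of type (0)).
-/

set_option autoImplicit false
set_option linter.unusedSectionVars false

namespace Cfsg.Agent.Intrinsic.WOneA

open Subgroup Cfsg
open Cfsg.Agent.SignalizersComponents
open Cfsg.Agent.SignalizersComponents.PLayerAut
open Cfsg.Agent.SignalizersComponents.IntrinsicBasic
open Cfsg.Agent.SignalizersComponents.RelSylow

/-- `g x g⁻¹` for the members of a list -/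
def lcj {G : Type*} [Group G] (g : G) (J : List G) : List G := J.map fun x => g * x * g⁻¹

section lcj

variable {G : Type*} [Group G]

theorem mem_lcj {g x : G} {J : List G} : x ∈ lcj g J ↔ ∃ j ∈ J, g * j * g⁻¹ = x := by
  unfold lcj; rw [List.mem_map]

theorem length_lcj (g : G) (J : List G) : (lcj g J).length = J.length := by
  unfold lcj; rw [List.length_map]

theorem prod_lcj (g : G) (J : List G) : (lcj g J).prod = g * J.prod * g⁻¹ := by
  induction J with
  | nil => simp [lcj]
  | cons a J ih =>
    have h : lcj g (a :: J) = (g * a * g⁻¹) :: lcj g J := rfl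
    rw [h, List.prod_cons, List.prod_cons, ih]; group

theorem commute_prod {J : List G} {x : G} (h : ∀ j ∈ J, Commute x j) : Commute x J.prod := by
  induction J with
  | nil => rw [List.prod_nil]; exact Commute.one_right x
  | cons a J ih =>
    rw [List.prod_cons]
    exact (h a (by simp)).mul_right (ih fun j hj => h j (by simp [hj]))

/-- the set of members of a list -/
abbrev lset (J : List G) : Set G := {x | x ∈ J}

/-- commuting involutions generate a 2-group -/
theorem closure_pgroup {J : List G} (h2 : ∀ j ∈ J, j * j = 1)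
    (hc : ∀ i ∈ J, ∀ j ∈ J, Commute i j) : IsPGroup 2 (closure (lset J)) := by
  have hcomm : ∀ x ∈ closure (lset J), ∀ y ∈ closure (lset J), Commute x y := by
    intro x hx y hy
    have h1 : closure (lset J) ≤ centralizer (lset J) := by
      rw [closure_le]
      intro i hi
      rw [SetLike.mem_coe, mem_centralizer_iff]
      intro j hj
      exact (hc j hj i hi).eq
    have h3 : closure (lset J) ≤ centralizer ((closure (lset J) : Subgroup G) : Set G) := by
      rw [closure_le]
      intro i hi
      rw [SetLike.mem_coe, mem_centralizer_iff]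
      intro j hj
      have := mem_centralizer_iff.mp (h1 hj) i hi
      exact this.symm
    have := mem_centralizer_iff.mp (h3 hx) y hy
    exact this.symm
  have hsq : ∀ x ∈ closure (lset J), x * x = 1 := by
    intro x hx
    induction hx using closure_induction with
    | mem i hi => exact h2 i hi
    | one => exact one_mul 1
    | mul a b ha hb iha ihb =>
      calc a * b * (a * b) = a * (b * a) * b := by group
        _ = a * (a * b) * b := by rw [(hcomm a ha b hb).eq]
        _ = (a * a) * (b * b) := by group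
        _ = 1 := by rw [iha, ihb, one_mul]
    | inv a ha iha =>
      rw [← mul_inv_rev, iha, inv_one]
  intro x
  refine ⟨1, ?_⟩
  apply Subtype.ext
  rw [pow_one, pow_two]
  exact hsq x x.2

end lcj

namespace Frame

variable {G : Type*} [Group G] {F : Frame G}

variable (F) in
/-- independent lists: pairwise of type (0) -/
structure Ind (J : List G) : Prop where
  mem : ∀ j ∈ J, j ∈ F.D
  pw : J.Pairwise F.Z

theorem Ind.z {J : List G} (h : F.Ind J) {i j : G} (hi : i ∈ J) (hj : j ∈ J) (hne : i ≠ j) :
    F.Z i j := by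
  have : Std.Symm F.Z := ⟨fun _ _ hz => hz.symm⟩
  exact h.pw.forall hi hj hne

theorem Ind.comm {J : List G} (h : F.Ind J) {i j : G} (hi : i ∈ J) (hj : j ∈ J) :
    Commute i j := by
  by_cases e : i = j
  · rw [e]
  · exact (h.z hi hj e).comm

theorem Ind.nodup {J : List G} (h : F.Ind J) : J.Nodup :=
  h.pw.imp fun hz => hz.ne

theorem Ind.cons {J : List G} {a : G} (h : F.Ind J) (ha : a ∈ F.D) (hz : ∀ j ∈ J, F.Z a j) :
    F.Ind (a :: J) :=
  ⟨by
    intro j hj
    rcases List.mem_cons.mp hj with rfl | hj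
    · exact ha
    · exact h.mem j hj, List.pairwise_cons.mpr ⟨hz, h.pw⟩⟩

theorem Ind.of_cons {J : List G} {a : G} (h : F.Ind (a :: J)) :
    a ∈ F.D ∧ (∀ j ∈ J, F.Z a j) ∧ F.Ind J :=
  ⟨h.mem a (by simp), (List.pairwise_cons.mp h.pw).1,
    ⟨fun j hj => h.mem j (by simp [hj]), (List.pairwise_cons.mp h.pw).2⟩⟩

theorem Ind.perm {J J' : List G} (h : F.Ind J) (hp : J.Perm J') : F.Ind J' :=
  ⟨fun j hj => h.mem j (hp.mem_iff.mpr hj), (hp.pairwise_iff fun {_ _} hz => hz.symm).mp h.pw⟩

theorem Ind.cj {J : List G} (h : F.Ind J) (g : G) : F.Ind (lcj g J) := by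
  refine ⟨?_, ?_⟩
  · intro x hx
    obtain ⟨j, hj, rfl⟩ := mem_lcj.mp hx
    exact F.conj j (h.mem j hj) g
  · unfold lcj
    rw [List.pairwise_map]
    exact h.pw.imp fun hz => hz.conj g

theorem Ind.prod_mem_K {J : List G} {v : G} (hJ : ∀ j ∈ J, j ∈ F.K v) : J.prod ∈ F.K v :=
  list_prod_mem hJ

theorem Ind.sq {J : List G} (h : F.Ind J) : J.prod * J.prod = 1 := by
  induction J with
  | nil => simp
  | cons a J ih =>
    obtain ⟨ha, hz, hJ⟩ := h.of_cons
    have hc : Commute a J.prod := commute_prod fun j hj => (hz j hj).comm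
    rw [List.prod_cons]
    calc a * J.prod * (a * J.prod) = a * (J.prod * a) * J.prod := by group
      _ = a * (a * J.prod) * J.prod := by rw [hc.eq]
      _ = (a * a) * (J.prod * J.prod) := by group
      _ = 1 := by rw [mul_self_of_order (F.ord a ha), ih hJ, one_mul]

theorem Ind.commute_prod {J : List G} (h : F.Ind J) {j : G} (hj : j ∈ J) : Commute j J.prod :=
  WOneA.commute_prod fun _ hi => h.comm hj hi

/-- `∏ J ∈ K_j` for `j ∈ J` -/
theorem Ind.prod_K {J : List G} (h : F.Ind J) {j : G} (hj : j ∈ J) : J.prod ∈ F.K j := by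
  apply list_prod_mem
  intro i hi
  by_cases e : i = j
  · rw [e]; exact F.self_mem_K (h.mem j hj)
  · exact (h.z hj hi (Ne.symm e)).mem

theorem Ind.closure_pgroup {J : List G} (h : F.Ind J) : IsPGroup 2 (closure (lset J)) :=
  WOneA.closure_pgroup (fun j hj => mul_self_of_order (F.ord j (h.mem j hj)))
    fun _ hi _ hj => h.comm hi hj

/-- splitting off one member -/
theorem Ind.erase {J : List G} (h : F.Ind J) {j : G} (hj : j ∈ J) :
    ∃ J', F.Ind (j :: J') ∧ J.Perm (j :: J') ∧ J.prod = j * J'.prod := by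
  classical
  refine ⟨J.erase j, h.perm (List.perm_cons_erase hj), List.perm_cons_erase hj, ?_⟩
  rw [← List.prod_cons]
  apply (List.perm_cons_erase hj).prod_eq'
  exact h.pw.imp fun hz => hz.comm

variable [Finite G]

/-- a list `J ≠ []`, `J` independent: its product is an involution -/
theorem Ind.orderOf_prod {J : List G} (h : F.Ind J) (hne : J ≠ []) : orderOf J.prod = 2 := by
  apply order_two h.sq
  intro e
  obtain ⟨a, J', rfl⟩ := List.exists_cons_of_ne_nil hne
  obtain ⟨ha, hz, hJ'⟩ := h.of_cons
  obtain ⟨t, htL, ht2, htne, htc⟩ := F.exists_inv a ha (closure (lset J')) hJ'.closure_pgroup (by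
    rw [closure_le]; intro j hj; exact (hz j hj).mem)
  have hK : J'.prod ∈ F.K t := by
    apply list_prod_mem
    intro j hj
    exact ((hz j hj).inherit htL ht2 (htc j (subset_closure hj))).1.mem
  rw [List.prod_cons] at e
  have e1 : a = (J'.prod)⁻¹ := eq_inv_of_mul_eq_one_left e
  obtain ⟨htD, hat⟩ := F.invol a ha t htL ht2
  have haK : a ∈ F.K t := e1 ▸ inv_mem hK
  exact htne (F.inf_eq t htD a hat (F.ord a ha) haK).symm

variable (F) in
theorem exists_max (J₀ : List G) (h₀ : F.Ind J₀) :
    ∃ V, F.Ind V ∧ J₀.length ≤ V.length ∧ ∀ J, F.Ind J → J.length ≤ V.length := by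
  classical
  have hb : ∀ J, F.Ind J → J.length ≤ Nat.card G := by
    intro J hJ
    have : Fintype G := Fintype.ofFinite G
    rw [Nat.card_eq_fintype_card]
    exact hJ.nodup.length_le_card
  let P : ℕ → Prop := fun n => ∃ J, F.Ind J ∧ J.length = n
  have hP : P (Nat.findGreatest P (Nat.card G)) :=
    Nat.findGreatest_spec (P := P) (hb J₀ h₀) ⟨J₀, h₀, rfl⟩
  obtain ⟨V, hV, hVl⟩ := hP
  refine ⟨V, hV, ?_, fun J hJ => ?_⟩
  · rw [hVl]; exact Nat.le_findGreatest (hb J₀ h₀) ⟨J₀, h₀, rfl⟩
  · rw [hVl]; exact Nat.le_findGreatest (hb J hJ) ⟨J, hJ, rfl⟩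

end Frame

end Cfsg.Agent.Intrinsic.WOneA
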