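import Cfsg.Agent.Intrinsic.WOneA.Frame
import Cfsg.Agent.Intrinsic.WOne.Three

/-!
S1738: fields of the record `Frame` from the world W1 (`WOne.W1`), without (5.4)-(5.6).
-/

set_option autoImplicit false
set_option linter.unusedSectionVars false

namespace Cfsg.Agent.Intrinsic.WOneA.OfWOne

open Subgroup Cfsg
open Cfsg.Agent.SignalizersComponents
open Cfsg.Agent.SignalizersComponents.PLayerAut
open Cfsg.Agent.SignalizersComponents.IntrinsicBasic
open Cfsg.Agent.SignalizersComponents.RelSylow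
open Cfsg.Agent.Intrinsic.Basic Cfsg.Agent.Intrinsic.Cen Cfsg.Agent.Intrinsic.Quot
open Cfsg.Agent.Intrinsic.WOne

variable {G : Type*} [Group G] [Finite G] {n : ℕ} {D : Set G} {L : G → Subgroup G}

theorem sq_of {x : G} (h : orderOf x = 2) : x * x = 1 := by
  rw [← pow_two, ← h]; exact pow_orderOf_eq_one x

theorem ne_of {x : G} (h : orderOf x = 2) : x ≠ 1 := by
  rintro rfl; rw [orderOf_one] at h; omega

theorem mem_K (h : W1 n D L) {u : G} (hu : u ∈ D) {x : G} :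
    x ∈ cenMod (Ce u) (L u) ↔ x * u = u * x ∧ Fixes x (L u) := by
  constructor
  · intro hx
    have h1 := cenMod_le _ _ hx
    exact ⟨mem_centralizer_singleton_iff.mp h1, ((h.comp hu).fixes_iff h1).mpr hx⟩
  · rintro ⟨h1, h2⟩
    exact ((h.comp hu).fixes_iff (mem_centralizer_singleton_iff.mpr h1)).mp h2

open Classical in
/-- `M_x(L_u)` -/
noncomputable def cmpF (L : G → Subgroup G) (x u : G) : Subgroup G :=
  if x = u then L u else pump x (L u)

theorem cmpF_self (L : G → Subgroup G) (u : G) : cmpF L u u = L u := by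
  unfold cmpF; rw [if_pos rfl]

theorem cmpF_of_ne (L : G → Subgroup G) {x u : G} (h : x ≠ u) : cmpF L x u = pump x (L u) := by
  unfold cmpF; rw [if_neg h]

theorem ord (h : W1 n D L) : ∀ u ∈ D, orderOf u = 2 := fun _ hu => (h.pair hu).inv

theorem invol (h : W1 n D L) : ∀ u ∈ D, ∀ t ∈ L u, orderOf t = 2 → t ∈ D ∧ u ∈ L t :=
  fun _ hu _ ht ht2 => ⟨h.inv_mem hu ht (sq_of ht2) (ne_of ht2),
    h.mem_of_mem hu ht (sq_of ht2) (ne_of ht2)⟩

theorem inf_eq (h : W1 n D L) : ∀ u ∈ D, ∀ t ∈ L u, orderOf t = 2 → t ∈ cenMod (Ce u) (L u) →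
    t = u :=
  fun _ hu _ ht ht2 hK => h.eq_of_fixes hu ht (sq_of ht2) (ne_of ht2) ((mem_K h hu).mp hK).2

theorem symm (h : W1 n D L) : ∀ u ∈ D, ∀ v ∈ D, v ∈ cenMod (Ce u) (L u) →
    u ∈ cenMod (Ce v) (L v) := by
  intro u hu v hv hK
  obtain ⟨h1, h2⟩ := (mem_K h hu).mp hK
  exact (mem_K h hv).mpr ⟨h1.symm, h.symm hu hv h1.symm h2⟩

theorem cmp_comp (h : W1 n D L) : ∀ u ∈ D, ∀ x ∈ cenMod (Ce u) (L u), orderOf x = 2 →
    TC (Ce x) (cmpF L x u) := by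
  intro u hu x hx hx2
  by_cases e : x = u
  · rw [e, cmpF_self]; exact (h.comp hu).tc
  · rw [cmpF_of_ne L e]
    obtain ⟨h1, h2⟩ := (mem_K h hu).mp hx
    exact (pump_comp (h.pair hu) (sq_of hx2) h1 h2).tc

theorem cmp_conj (h : W1 n D L) : ∀ u ∈ D, ∀ x ∈ cenMod (Ce u) (L u), orderOf x = 2 →
    ∀ g : G, cmpF L (g * x * g⁻¹) (g * u * g⁻¹) = cj g (cmpF L x u) := by
  intro u hu x hx hx2 g
  by_cases e : x = u
  · rw [e, cmpF_self, cmpF_self, h.L_conj hu]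
  · have e' : g * x * g⁻¹ ≠ g * u * g⁻¹ := fun e1 => e (mul_left_cancel (mul_right_cancel e1))
    rw [cmpF_of_ne L e, cmpF_of_ne L e']
    obtain ⟨h1, h2⟩ := (mem_K h hu).mp hx
    rw [h.L_conj hu]
    exact cj_pump (h.pair hu) (sq_of hx2) h1 h2 g

theorem mem_cmp (h : W1 n D L) : ∀ u ∈ D, ∀ x ∈ cenMod (Ce u) (L u), orderOf x = 2 →
    ∀ a ∈ L u, ∀ n : ℕ, a ^ 2 ^ n = 1 → Commute a x → a ∈ cmpF L x u := by
  intro u hu x hx hx2 a ha n hn hc
  by_cases e : x = u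
  · rw [e, cmpF_self]; exact ha
  · rw [cmpF_of_ne L e]
    obtain ⟨h1, h2⟩ := (mem_K h hu).mp hx
    exact mem_pump_of_mem (h.pair hu) (sq_of hx2) h1 h2 ha hc hn

theorem of_cmp (h : W1 n D L) : ∀ u ∈ D, ∀ x ∈ cenMod (Ce u) (L u), orderOf x = 2 →
    ∀ a ∈ cmpF L x u, ∀ n : ℕ, a ^ 2 ^ n = 1 → Commute a u → a ∈ L u := by
  intro u hu x hx hx2 a ha k hk hc
  by_cases e : x = u
  · rw [e, cmpF_self] at ha; exact ha
  · rw [cmpF_of_ne L e] at ha
    obtain ⟨h1, h2⟩ := (mem_K h hu).mp hx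
    exact cen_le _ _ (mem_of_comm_two (h.small_or_big hu (sq_of hx2) (ne_of hx2) h1 h2)
      (isComp_cen_inf (h.pair hu) (sq_of hx2) h1 h2) ha hc hk)

/-- every involution of `pump x (L u)` is conjugate to an involution of `L u` -/
theorem exists_conj (h : W1 n D L) {u : G} (hu : u ∈ D) {x : G} (hx2 : orderOf x = 2)
    (h1 : x * u = u * x) (h2 : Fixes x (L u)) {t : G} (ht : t ∈ pump x (L u))
    (ht2 : orderOf t = 2) : ∃ g ∈ pump x (L u), ∃ j ∈ L u, orderOf j = 2 ∧ g * j * g⁻¹ = t := by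
  have htt := sq_of ht2
  rcases h.small_or_big hu (sq_of hx2) (ne_of hx2) h1 h2 with hs | hb
  · obtain ⟨j, hj, hc⟩ := exists_mul_of_sup hs ht
    have hcl := cen_le_pump (h.pair hu) (sq_of hx2) h1 h2
    have hjM : j ∈ pump x (L u) := hcl hj
    -- the 2-part of `j`
    have hjj : j ^ 2 ^ 1 ∈ core (pump x (L u)) := by
      have e1 : j⁻¹ * t * (j⁻¹ * t) ∈ core (pump x (L u)) := mul_mem hc hc
      have e2 : t * (j⁻¹ * t) * t⁻¹ ∈ core (pump x (L u)) :=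
        conj_mem_core (le_normalizer ht) hc
      have e3 : (j⁻¹ * t) * (t * (j⁻¹ * t) * t⁻¹) = j⁻¹ * (t * t) * j⁻¹ := by group
      have e4 := mul_mem hc e2
      rw [e3, htt, mul_one] at e4
      have e5 := inv_mem e4
      rw [pow_one, pow_two]
      simpa using e5
    obtain ⟨k, hk, hkc⟩ := Lifting.exists_two_part (odd_card_core (pump x (L u))) hjj
    have hkc' : (j ^ k)⁻¹ * t ∈ core (pump x (L u)) := by
      have e1 : (j ^ k)⁻¹ * t = (j⁻¹ * j ^ k)⁻¹ * (j⁻¹ * t) := by group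
      rw [e1]
      exact mul_mem (inv_mem hkc) hc
    obtain ⟨o, ho, hot⟩ := Lifting.exists_conj_eq (odd_card_core (pump x (L u))) (v := j ^ k)
      (v' := t) hk (m := 1) (by rw [pow_one, pow_two, htt])
      (le_normalizer_core _ ((pump x (L u)).pow_mem hjM k)) hkc'
    refine ⟨o, core_le _ ho, j ^ k, (L u).pow_mem (cen_le _ _ hj) k, ?_, hot⟩
    have h3 : orderOf (o * j ^ k * o⁻¹) = orderOf (j ^ k) := by
      have := orderOf_injective (MulAut.conj o).toMonoidHom (MulAut.conj o).injective (j ^ k)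
      simpa using this
    rw [← h3, hot, ht2]
  · obtain ⟨g, hg, hgt⟩ := Big.conj hb (h.sq hu) ht htt (ne_of ht2)
    exact ⟨g, hg, u, h.mem hu, (h.pair hu).inv, hgt⟩

theorem cmp_inv (h : W1 n D L) : ∀ u ∈ D, ∀ x ∈ cenMod (Ce u) (L u), orderOf x = 2 →
    ∀ t ∈ cmpF L x u, orderOf t = 2 → t ∈ D := by
  intro u hu x hx hx2 t ht ht2
  by_cases e : x = u
  · rw [e, cmpF_self] at ht
    exact h.inv_mem hu ht (sq_of ht2) (ne_of ht2)
  · rw [cmpF_of_ne L e] at ht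
    obtain ⟨h1, h2⟩ := (mem_K h hu).mp hx
    obtain ⟨g, _, j, hj, hj2, rfl⟩ := exists_conj h hu hx2 h1 h2 ht ht2
    exact h.conj (h.inv_mem hu hj (sq_of hj2) (ne_of hj2)) g

theorem cmp_cen (h : W1 n D L) : ∀ u ∈ D, ∀ x ∈ cenMod (Ce u) (L u), orderOf x = 2 →
    ∀ c : G, orderOf c = 2 → Commute c u → c ∈ cenMod (Ce x) (cmpF L x u) →
    c ∈ cenMod (Ce u) (L u) := by
  intro u hu x hx hx2 c hc2 hcu hcK
  by_cases e : x = u
  · rw [e, cmpF_self] at hcK; exact hcK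
  · rw [cmpF_of_ne L e] at hcK
    obtain ⟨h1, h2⟩ := (mem_K h hu).mp hx
    have hcx := cenMod_le _ _ hcK
    have hf := ((pump_comp (h.pair hu) (sq_of hx2) h1 h2).fixes_iff hcx).mpr hcK
    exact (mem_K h hu).mpr ⟨hcu, fixes_of_pump (h.pair hu) (sq_of hx2) h1 h2 (h.norm hu hcu)
      (mem_centralizer_singleton_iff.mp hcx) hf⟩

theorem small (h : W1 n D L) : ∀ u ∈ D, ∀ x ∈ cenMod (Ce u) (L u), orderOf x = 2 →
    ∀ t ∈ L u, orderOf t = 2 → t ≠ u → Commute t x → x ∉ cenMod (Ce t) (L t) →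
    u ∈ cenMod (Ce x) (cmpF L x u) := by
  intro u hu x hx hx2 t ht ht2 htu htx hxt
  have htD := h.inv_mem hu ht (sq_of ht2) (ne_of ht2)
  obtain ⟨h1, h2⟩ := (mem_K h hu).mp hx
  by_cases e : x = u
  · rw [e, cmpF_self]
    exact (mem_K h hu).mpr ⟨rfl, h.fixes_self hu⟩
  · rw [cmpF_of_ne L e]
    rcases h.small_or_big hu (sq_of hx2) (ne_of hx2) h1 h2 with hs | hb
    · exact ((pump_comp (h.pair hu) (sq_of hx2) h1 h2).fixes_iff
        (mem_centralizer_singleton_iff.mpr h1.symm)).mp (hs.fixes (h.pair hu) h1)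
    · exfalso
      apply hxt
      have hxt' : x * t = t * x := htx.symm
      exact (mem_K h htD).mpr ⟨hxt', (h.isBig_iff hu (sq_of hx2) (ne_of hx2) h1 h2 ht (sq_of ht2)
        (ne_of ht2) htu hxt').mp hb⟩

/-- the field `big` from (5.5) -/
theorem big_of (h : W1 n D L)
    (h55 : ∀ {u s : G}, u ∈ D → s ∈ D → s ≠ u → s * u = u * s → Fixes s (L u) →
      IsBig n u (L u) s) :
    ∀ u ∈ D, ∀ s ∈ D, u ≠ s → s ∈ cenMod (Ce u) (L u) → ∀ t ∈ cmpF L s u, orderOf t = 2 →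
      ∃ g ∈ cmpF L s u, g * u * g⁻¹ = t := by
  intro u hu s hs hne hsK t ht ht2
  obtain ⟨h1, h2⟩ := (mem_K h hu).mp hsK
  rw [cmpF_of_ne L hne.symm] at ht ⊢
  exact Big.conj (h55 hu hs hne.symm h1 h2) (h.sq hu) ht (sq_of ht2) (ne_of ht2)

end Cfsg.Agent.Intrinsic.WOneA.OfWOne
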