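import Cfsg.Agent.Intrinsic.WOneA.Se

/-!
S1738, section 5b: `Final.PairStmt` modulo Bender's theorem (S0222), Aschbacher's criterion (S1175) and (5b.1).
-/

set_option autoImplicit false

namespace Cfsg.Agent.Intrinsic.WOneA.PairEnd

open Subgroup Cfsg
open Cfsg.Agent.SignalizersComponents.IntrinsicBasic

universe u

theorem pairStmt (hBen : BigBal.BenderSimple.{u})
    (hA : ∀ (G : Type u) [Group G] [Finite G] [IsSimpleGroup G], Asch G)
    (hW : ∀ (G : Type u) [Group G] [Finite G] (F : Frame G) (u s : G), F.Z u s →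
      ∃ W : G → Subgroup G, (∀ u ∈ F.D, Odd (Nat.card (W u))) ∧ (∀ u ∈ F.D, OC u ≤ W u) ∧
      (∀ u ∈ F.D, ∀ g, W (g * u * g⁻¹) = cj g (W u)) ∧
      (∀ u ∈ F.D, ∀ v ∈ F.D, Commute u v → W u = W v)) : Final.PairStmt.{u} :=
  Glue.pairStmt hBen hA (fun _ _ _ _ _ _ h => Se.se hBen h) hW

end Cfsg.Agent.Intrinsic.WOneA.PairEnd
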