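import Cfsg.Agent.Intrinsic.WOneA.Frame
import Cfsg.Agent.SignalizersComponents.IntrinsicLemmaC

/-!
S1738, section 5b: elementary consequences of the record `Frame` (pairs of type (0), the lemma on two
non-commuting elements of `D` in a 2-group).
-/

set_option autoImplicit false
set_option linter.unusedSectionVars false

namespace Cfsg.Agent.Intrinsic.WOneA

open Subgroup Cfsg
open Cfsg.Agent.SignalizersComponents
open Cfsg.Agent.SignalizersComponents.PLayerAut
open Cfsg.Agent.SignalizersComponents.IntrinsicBasic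
open Cfsg.Agent.SignalizersComponents.RelSylow

section general

variable {G : Type*} [Group G]

theorem mem_Ce {x y : G} : y ∈ Ce x ↔ Commute y x := mem_centralizer_singleton_iff

theorem mul_self_of_order {x : G} (h : orderOf x = 2) : x * x = 1 := by
  rw [← pow_two, ← h]; exact pow_orderOf_eq_one x

theorem ne_one_of_order {x : G} (h : orderOf x = 2) : x ≠ 1 := by
  rintro rfl; rw [orderOf_one] at h; omega

theorem order_two {x : G} (h : x * x = 1) (h1 : x ≠ 1) : orderOf x = 2 := by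
  rw [orderOf_eq_iff (by norm_num)]
  refine ⟨by rw [pow_two]; exact h, fun m hm hm0 => ?_⟩
  have : m = 1 := by omega
  rw [this, pow_one]; exact h1

theorem inv_eq_of_order {x : G} (h : orderOf x = 2) : x⁻¹ = x :=
  inv_eq_of_mul_eq_one_left (mul_self_of_order h)

theorem pow_of_order {x : G} (h : orderOf x = 2) : x ^ 2 ^ 1 = 1 := by
  rw [pow_one, pow_two]; exact mul_self_of_order h

theorem orderOf_cj {x : G} (g : G) : orderOf (g * x * g⁻¹) = orderOf x := by
  have := orderOf_injective (MulAut.conj g).toMonoidHom (MulAut.conj g).injective x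
  simpa using this

theorem conj_eq_of_commute {x g : G} (h : Commute g x) : g * x * g⁻¹ = x := by
  rw [h.eq, mul_assoc, mul_inv_cancel, mul_one]

theorem commute_of_conj_eq {x g : G} (h : g * x * g⁻¹ = x) : Commute g x := by
  calc g * x = (g * x * g⁻¹) * g := by group
    _ = x * g := by rw [h]

end general

namespace Frame

variable {G : Type*} [Group G] (F : Frame G)

theorem K_le (u : G) : F.K u ≤ Ce u := cenMod_le _ _

theorem L_le {u : G} (hu : u ∈ F.D) : F.L u ≤ Ce u := (F.L_comp u hu).le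

theorem mem_K {u k : G} (hu : u ∈ F.D) :
    k ∈ F.K u ↔ k ∈ Ce u ∧ ∀ l ∈ F.L u, l⁻¹ * (k * l * k⁻¹) ∈ OC u :=
  mem_cenMod (F.L_le hu)

theorem self_mem_K {u : G} (hu : u ∈ F.D) : u ∈ F.K u := by
  rw [F.mem_K hu]
  refine ⟨mem_Ce.mpr (Commute.refl u), fun l hl => ?_⟩
  have h : Commute u l := (mem_Ce.mp (F.L_le hu hl)).symm
  rw [conj_eq_of_commute h, inv_mul_cancel]
  exact one_mem _

theorem K_conj {u : G} (hu : u ∈ F.D) (g : G) : F.K (g * u * g⁻¹) = cj g (F.K u) := by
  unfold K Ce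
  rw [cj_cenMod g (F.L_le hu), cj_centralizer, F.L_conj u hu]

theorem cenMod_cmp_mono {u x : G} (hu : u ∈ F.D) (hx : x ∈ F.K u) (hx2 : orderOf x = 2) :
    F.cmp x u ≤ Ce x := (F.cmp_comp u hu x hx hx2).le

variable {F}

theorem Z.K_left {u s : G} (h : F.Z u s) : s ∈ F.K u := h.mem

theorem Z.K_right {u s : G} (h : F.Z u s) : u ∈ F.K s := F.symm u h.left s h.right h.mem

theorem Z.symm {u s : G} (h : F.Z u s) : F.Z s u := ⟨h.right, h.left, h.ne.symm, h.K_right⟩

theorem Z.comm {u s : G} (h : F.Z u s) : Commute u s := (mem_Ce.mp (F.K_le u h.mem)).symm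

theorem Z.conj {u s : G} (h : F.Z u s) (g : G) : F.Z (g * u * g⁻¹) (g * s * g⁻¹) := by
  refine ⟨F.conj u h.left g, F.conj s h.right g, ?_, ?_⟩
  · intro e
    apply h.ne
    have := congrArg (fun y => g⁻¹ * y * g) e
    simpa [mul_assoc] using this
  · rw [F.K_conj h.left]
    exact conj_mem_cj h.mem

theorem Z.orderOf_mul {u s : G} (h : F.Z u s) : orderOf (u * s) = 2 := by
  apply order_two
  · calc u * s * (u * s) = u * (s * u) * s := by group
      _ = u * (u * s) * s := by rw [h.comm.eq]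
      _ = (u * u) * (s * s) := by group
      _ = 1 := by
        rw [mul_self_of_order (F.ord u h.left), mul_self_of_order (F.ord s h.right), one_mul]
  · intro e
    apply h.ne
    have h1 : u = s⁻¹ := eq_inv_of_mul_eq_one_left e
    rw [h1, inv_eq_of_order (F.ord s h.right)]

/-- inheritance -/
theorem Z.of_mem_cmp {u s t : G} (h : F.Z u s) (ht : t ∈ F.cmp s u) (ht2 : orderOf t = 2) :
    F.Z t s ∧ F.cmp s t = F.cmp s u := by
  obtain ⟨g, hg, rfl⟩ := F.big u h.left s h.right h.ne h.mem t ht ht2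
  have hs2 := F.ord s h.right
  have hgs : Commute g s := mem_Ce.mp (F.cenMod_cmp_mono h.left h.mem hs2 hg)
  have e : g * s * g⁻¹ = s := conj_eq_of_commute hgs
  have h1 := h.conj g
  rw [e] at h1
  refine ⟨h1, ?_⟩
  have h2 := F.cmp_conj u h.left s h.mem hs2 g
  rw [e] at h2
  rw [h2]
  exact cj_eq_self_of_mem hg

theorem Z.mem_cmp {u s a : G} (h : F.Z u s) (ha : a ∈ F.L u) {n : ℕ} (hn : a ^ 2 ^ n = 1)
    (hc : Commute a s) : a ∈ F.cmp s u :=
  F.mem_cmp u h.left s h.mem (F.ord s h.right) a ha n hn hc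

theorem Z.inherit {u s t : G} (h : F.Z u s) (ht : t ∈ F.L u) (ht2 : orderOf t = 2)
    (hc : Commute t s) : F.Z t s ∧ F.cmp s t = F.cmp s u :=
  h.of_mem_cmp (h.mem_cmp ht (pow_of_order ht2) hc) ht2

theorem Z.not_mem {u s : G} (h : F.Z u s) : s ∉ F.L u := fun h1 =>
  h.ne (F.inf_eq u h.left s h1 (F.ord s h.right) h.mem).symm

theorem Z.not_mem' {u s : G} (h : F.Z u s) : u ∉ F.L s := h.symm.not_mem

theorem Z.cmp_ne {u s x : G} (h : F.Z u s) (hx2 : orderOf x = 2) (hxu : x ∈ F.K u)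
    (hxs : x ∈ F.K s) : F.cmp x u ≠ F.cmp x s := by
  intro e
  have hc : Commute s x := (mem_Ce.mp (F.K_le s hxs)).symm
  have h1 : s ∈ F.cmp x s := F.mem_cmp s h.right x hxs hx2 s (F.self_mem s h.right) 1
    (pow_of_order (F.ord s h.right)) hc
  rw [← e] at h1
  exact h.not_mem (F.of_cmp u h.left x hxu hx2 s h1 1 (pow_of_order (F.ord s h.right)) h.comm.symm)

theorem self_mem_cmp (F : Frame G) {u x : G} (hu : u ∈ F.D) (hx : x ∈ F.K u)
    (hx2 : orderOf x = 2) : u ∈ F.cmp x u :=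
  F.mem_cmp u hu x hx hx2 u (F.self_mem u hu) 1 (pow_of_order (F.ord u hu))
    (mem_Ce.mp (F.K_le u hx)).symm

/-- type (1): `v ∈ L u`, `v ≠ u` -/
theorem split' (F : Frame G) {u v : G} (hu : u ∈ F.D) (hv : v ∈ F.D) (hne : u ≠ v)
    (hc : Commute u v) : v ∈ F.L u ∨ F.Z u v := by
  rcases F.split u hu v hv hc with h | h
  · exact Or.inl h
  · exact Or.inr ⟨hu, hv, hne, h⟩

variable [Finite G]

/-- `[P ∩ L u, P ∩ K u] = 1` for a 2-group `P`. -/
theorem comm_LK (F : Frame G) {P : Subgroup G} (hP : IsPGroup 2 P) {u a b : G} (hu : u ∈ F.D)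
    (ha : a ∈ F.L u) (haP : a ∈ P) (hb : b ∈ F.K u) (hbP : b ∈ P) : Commute a b :=
  IntrinsicLemmaC.comm_of_cenMod (F.L_le hu) hP ha hb haP hbP

/-- a 2-component of `C(b)` is normalized by the elements of the other 2-components -/
theorem _root_.Cfsg.Agent.Intrinsic.WOneA.normalizes {X M M' : Subgroup G} (hM : TC X M)
    (hM' : TC X M') {a : G} (ha : a ∈ M') : a ∈ normalizer (M : Set G) := by
  by_cases e : M = M'
  · rw [e]; exact le_normalizer ha
  · exact hM.cenMod_le_normalizer (hM.le_cenMod hM' e ha)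

/-- The dihedral calculation: `u, v` involutions, `g` a power of `u v`. -/
theorem _root_.Cfsg.Agent.Intrinsic.WOneA.dihedral {u v : G} (hu : orderOf u = 2)
    (hv : orderOf v = 2) (j : ℕ) :
    ((u * v) ^ j)⁻¹ * u * (u * v) ^ j = u * ((u * v) ^ j * (u * v) ^ j) ∧
    ((u * v) ^ j)⁻¹ * v * (u * v) ^ j = v * ((u * v) ^ j * (u * v) ^ j) := by
  have hui := inv_eq_of_order hu
  have hvi := inv_eq_of_order hv
  have hw : (u * v)⁻¹ = v * u := by rw [mul_inv_rev, hui, hvi]
  have h1 : u * (u * v) * u⁻¹ = (u * v)⁻¹ := by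
    rw [hw, hui]
    calc u * (u * v) * u = (u * u) * (v * u) := by group
      _ = v * u := by rw [mul_self_of_order hu, one_mul]
  have h2 : v * (u * v) * v⁻¹ = (u * v)⁻¹ := by rw [hw]; group
  have h1' : u * (u * v) ^ j * u⁻¹ = ((u * v) ^ j)⁻¹ := by
    rw [← conj_pow, h1, inv_pow]
  have h2' : v * (u * v) ^ j * v⁻¹ = ((u * v) ^ j)⁻¹ := by
    rw [← conj_pow, h2, inv_pow]
  constructor
  · rw [← h1']; group
  · rw [← h2']; group

/-- Two elements of `D` in a 2-group which do not commute: the central involution `b` of the dihedral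
group they generate is in `D`, in `L u` and in `L v`. -/
theorem dd (F : Frame G) {P : Subgroup G} (hP : IsPGroup 2 P) {u v : G} (hu : u ∈ F.D)
    (hv : v ∈ F.D) (huP : u ∈ P) (hvP : v ∈ P) (hne : ¬ Commute u v) :
    ∃ b ∈ F.D, b ∈ P ∧ b ∈ F.L u ∧ b ∈ F.L v := by
  have hu2 := F.ord u hu
  have hv2 := F.ord v hv
  obtain ⟨w, hw⟩ : ∃ w, w = u * v := ⟨_, rfl⟩
  have hwP : w ∈ P := hw ▸ P.mul_mem huP hvP
  obtain ⟨k, hk⟩ : ∃ k, w ^ 2 ^ k = 1 := by
    obtain ⟨k, hk⟩ := hP ⟨w, hwP⟩
    exact ⟨k, by simpa using congrArg Subtype.val hk⟩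
  -- minimal exponent
  have hex : ∃ k, w ^ 2 ^ k = 1 := ⟨k, hk⟩
  classical
  obtain ⟨m, hm, hmin⟩ : ∃ m, w ^ 2 ^ m = 1 ∧ ∀ i < m, w ^ 2 ^ i ≠ 1 :=
    ⟨Nat.find hex, Nat.find_spec hex, fun i hi => Nat.find_min hex hi⟩
  have hm2 : 2 ≤ m := by
    by_contra hlt
    apply hne
    have hw2 : w ^ 2 = 1 := by
      have h3 : m = 0 ∨ m = 1 := by omega
      rcases h3 with rfl | rfl
      · rw [pow_zero, pow_one] at hm; rw [hm, one_pow]
      · rwa [pow_one] at hm
    have h3 : w⁻¹ = w := inv_eq_of_mul_eq_one_left (by rw [← pow_two]; exact hw2)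
    have h4 : (u * v)⁻¹ = v * u := by rw [mul_inv_rev, inv_eq_of_order hu2, inv_eq_of_order hv2]
    rw [hw, h4] at h3
    exact h3.symm
  obtain ⟨i, rfl⟩ : ∃ i, m = i + 2 := ⟨m - 2, by omega⟩
  obtain ⟨g, hg⟩ : ∃ g, g = w ^ 2 ^ i := ⟨_, rfl⟩
  obtain ⟨b, hb⟩ : ∃ b, b = g * g := ⟨_, rfl⟩
  have hbw : b = w ^ 2 ^ (i + 1) := by
    rw [hb, hg, ← pow_add]; congr 1; rw [pow_succ]; ring
  have hbb : b * b = 1 := by
    rw [hbw, ← pow_add, ← hm]; congr 1; rw [pow_succ _ (i + 1)]; ring
  have hb1 : b ≠ 1 := by rw [hbw]; exact hmin _ (by omega)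
  have hb2 : orderOf b = 2 := order_two hbb hb1
  have hgP : g ∈ P := hg ▸ P.pow_mem hwP _
  have hbP : b ∈ P := hb ▸ P.mul_mem hgP hgP
  obtain ⟨hgu, hgv⟩ := dihedral hu2 hv2 (2 ^ i)
  rw [← hw, ← hg, ← hb] at hgu hgv
  -- `b` commutes with `u`, `v` and `g`
  have hbi : b⁻¹ = b := inv_eq_of_order hb2
  have hbu : Commute u b := by
    have h1 : u * g * u⁻¹ = g⁻¹ := by
      have : u * w * u⁻¹ = w⁻¹ := by
        rw [hw, mul_inv_rev, inv_eq_of_order hu2, inv_eq_of_order hv2]
        calc u * (u * v) * u = (u * u) * (v * u) := by group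
          _ = v * u := by rw [mul_self_of_order hu2, one_mul]
      rw [hg, ← conj_pow, this, inv_pow]
    have h2 : u * b * u⁻¹ = b := by
      calc u * b * u⁻¹ = (u * g * u⁻¹) * (u * g * u⁻¹) := by rw [hb]; group
        _ = (g * g)⁻¹ := by rw [h1]; group
        _ = b := by rw [← hb, hbi]
    exact commute_of_conj_eq h2
  have hbv : Commute v b := by
    have h1 : v * g * v⁻¹ = g⁻¹ := by
      have : v * w * v⁻¹ = w⁻¹ := by
        rw [hw, mul_inv_rev, inv_eq_of_order hu2, inv_eq_of_order hv2]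
        calc v * (u * v) * v = (v * u) * (v * v) := by group
          _ = v * u := by rw [mul_self_of_order hv2, mul_one]
      rw [hg, ← conj_pow, this, inv_pow]
    have h2 : v * b * v⁻¹ = b := by
      calc v * b * v⁻¹ = (v * g * v⁻¹) * (v * g * v⁻¹) := by rw [hb]; group
        _ = (g * g)⁻¹ := by rw [h1]; group
        _ = b := by rw [← hb, hbi]
    exact commute_of_conj_eq h2
  have hgb : Commute g b := by
    rw [hb]; exact (Commute.refl g).mul_right (Commute.refl g)
  have hubD : u * b ∈ F.D := by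
    have := F.conj u hu g⁻¹
    rw [inv_inv, hgu] at this
    exact this
  have hvbD : v * b ∈ F.D := by
    have := F.conj v hv g⁻¹
    rw [inv_inv, hgv] at this
    exact this
  have hub : u ≠ u * b := by
    intro h; exact hb1 (mul_left_cancel (h.symm.trans (mul_one u).symm))
  have hvb : v ≠ v * b := by
    intro h; exact hb1 (mul_left_cancel (h.symm.trans (mul_one v).symm))
  have hcu : Commute u (u * b) := (Commute.refl u).mul_right hbu
  have hcv : Commute v (v * b) := (Commute.refl v).mul_right hbv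
  have hLu : u * b ∈ F.L u → b ∈ F.L u := fun h => by
    have := (F.L u).mul_mem ((F.L u).inv_mem (F.self_mem u hu)) h
    rwa [inv_mul_cancel_left] at this
  have hLv : v * b ∈ F.L v → b ∈ F.L v := fun h => by
    have := (F.L v).mul_mem ((F.L v).inv_mem (F.self_mem v hv)) h
    rwa [inv_mul_cancel_left] at this
  have eu : u * (u * b) = b := by rw [← mul_assoc, mul_self_of_order hu2, one_mul]
  have ev : v * (v * b) = b := by rw [← mul_assoc, mul_self_of_order hv2, one_mul]
  rcases F.split' hu hubD hub hcu with h1 | h1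
  · have hbD : b ∈ F.D := (F.invol u hu b (hLu h1) hb2).1
    rcases F.split' hv hvbD hvb hcv with h2 | h2
    · exact ⟨b, hbD, hbP, hLu h1, hLv h2⟩
    · exact absurd hbD (ev ▸ F.prod v hv _ hvbD hvb h2.mem)
  · have hbD : b ∉ F.D := eu ▸ F.prod u hu _ hubD hub h1.mem
    rcases F.split' hv hvbD hvb hcv with h2 | h2
    · exact absurd (F.invol v hv b (hLv h2) hb2).1 hbD
    · exfalso
      have hbKu : b ∈ F.K u := by
        have := (F.K u).mul_mem (F.self_mem_K hu) h1.mem
        rwa [eu] at this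
      have hbKv : b ∈ F.K v := by
        have := (F.K v).mul_mem (F.self_mem_K hv) h2.mem
        rwa [ev] at this
      have hbKub : b ∈ F.K (u * b) := by
        have := (F.K (u * b)).mul_mem h1.K_right (F.self_mem_K hubD)
        rwa [eu] at this
      have hMu := F.cmp_comp u hu b hbKu hb2
      have hMv := F.cmp_comp v hv b hbKv hb2
      have hun : u ∈ normalizer (F.cmp b u : Set G) :=
        le_normalizer (F.self_mem_cmp hu hbKu hb2)
      have hvn : v ∈ normalizer (F.cmp b u : Set G) :=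
        normalizes hMu hMv (F.self_mem_cmp hv hbKv hb2)
      have hgn : g⁻¹ ∈ normalizer (F.cmp b u : Set G) := by
        rw [hg, hw]
        exact inv_mem (pow_mem (mul_mem hun hvn) _)
      have h3 := F.cmp_conj u hu b hbKu hb2 g⁻¹
      rw [inv_inv, hgu, mem_normalizer_iff_cj.mp hgn] at h3
      have h4 : g⁻¹ * b * g = b := by
        rw [mul_assoc, ← hgb.eq, inv_mul_cancel_left]
      rw [h4] at h3
      exact h1.cmp_ne hb2 hbKu hbKub h3.symm

end Frame

end Cfsg.Agent.Intrinsic.WOneA
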