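import Cfsg.Agent.Intrinsic.WOneA.Glue

/-!
S1738, (SE0) for big pump-ups: the field `se` of the record `Frame`.
-/

set_option autoImplicit false
set_option linter.unusedSectionVars false

namespace Cfsg.Agent.Intrinsic.WOneA.Se

open Subgroup Cfsg
open Cfsg.Agent.SignalizersComponents
open Cfsg.Agent.SignalizersComponents.PLayerAut
open Cfsg.Agent.SignalizersComponents.IntrinsicBasic
open Cfsg.Agent.SignalizersComponents.RelSylow
open Cfsg.Agent.Intrinsic.Basic Cfsg.Agent.Intrinsic.Cen Cfsg.Agent.Intrinsic.Quot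
open Cfsg.Agent.Intrinsic.WOne
open Cfsg.Agent.Intrinsic.WOneA.OfWOne

universe u

variable {G : Type u} [Group G] [Finite G] {n : ℕ} {D : Set G} {L : G → Subgroup G}

/-- commuting involutions of `M` -/
def Rel (M : Subgroup G) (a b : G) : Prop := a ∈ M ∧ b ∈ M ∧ orderOf b = 2 ∧ Commute a b

/-- connected by commuting involutions of `M` -/
def Path (M : Subgroup G) (a b : G) : Prop := Relation.ReflTransGen (Rel M) a b

theorem Path.conj {M : Subgroup G} {a b : G} (h : Path M a b) {g : G} (hg : g ∈ M) :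
    Path M (g * a * g⁻¹) (g * b * g⁻¹) := by
  induction h with
  | refl => exact Relation.ReflTransGen.refl
  | tail _ hbc ih =>
    obtain ⟨h1, h2, h3, h4⟩ := hbc
    refine ih.tail ⟨?_, ?_, ?_, ?_⟩
    · exact M.mul_mem (M.mul_mem hg h1) (M.inv_mem hg)
    · exact M.mul_mem (M.mul_mem hg h2) (M.inv_mem hg)
    · rw [orderOf_cj, h3]
    · exact (Commute.map h4 (MulAut.conj g).toMonoidHom : _)

theorem Path.symm {M : Subgroup G} {a b : G} (h : Path M a b) (ha : orderOf a = 2) :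
    Path M b a := by
  have key : orderOf b = 2 ∧ Path M b a := by
    induction h with
    | refl => exact ⟨ha, Relation.ReflTransGen.refl⟩
    | tail _ hbc ih =>
      obtain ⟨h1, h2, h3, h4⟩ := hbc
      exact ⟨h3, Relation.ReflTransGen.head ⟨h2, h1, ih.1, h4.symm⟩ ih.2⟩
  exact key.2

/-- the stabilizer of the connected component of `u` -/
def stab (M : Subgroup G) (u : G) (hu : orderOf u = 2) : Subgroup G where
  carrier := {g | g ∈ M ∧ Path M u (g * u * g⁻¹)}
  mul_mem' := by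
    rintro g h ⟨hg, hg'⟩ ⟨hh, hh'⟩
    refine ⟨M.mul_mem hg hh, ?_⟩
    have h1 := hh'.conj hg
    have e : g * (h * u * h⁻¹) * g⁻¹ = g * h * u * (g * h)⁻¹ := by group
    rw [e] at h1
    exact hg'.trans h1
  one_mem' := by
    refine ⟨M.one_mem, ?_⟩
    rw [one_mul, inv_one, mul_one]
    exact Relation.ReflTransGen.refl
  inv_mem' := by
    rintro g ⟨hg, hg'⟩
    refine ⟨M.inv_mem hg, ?_⟩
    have h1 := hg'.conj (M.inv_mem hg)
    have e : g⁻¹ * (g * u * g⁻¹) * g⁻¹⁻¹ = u := by group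
    rw [e] at h1
    exact h1.symm (by rw [orderOf_cj, hu])

theorem se (hBen : BigBal.BenderSimple.{u}) (h : W1 n D L) : Glue.Se D L := by
  intro u hu s hs hne hK hO S hS hstep t ht ht2
  obtain ⟨h1, h2⟩ := (mem_K h hu).mp hK
  have hss := h.sq hs
  have huu := h.sq hu
  have hu2 := (h.pair hu).inv
  have hB : IsBig n u (L u) s := h.isBig_of_zero hu hs hne.symm h1 h2
  obtain ⟨M, hM⟩ : ∃ M, M = pump s (L u) := ⟨_, rfl⟩
  obtain ⟨J, hJ⟩ : ∃ J, J = cen (L u) s := ⟨_, rfl⟩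
  have hcomp := pump_comp (h.pair hu) hss h1 h2
  have huJ := pair_mem_cen (h.pair hu) h1
  have hJc := isComp_cen_inf (h.pair hu) hss h1 h2
  have hcov := (cover_cen (h.pair hu).comp (mem_centralizer_singleton_iff.mpr h1) hss h2).mpr
    (h.pair hu).cover
  have hse := Bal.no_se_pump hBen (h.pair hu) hss h1 h2 hB
  have hB' : Big n u J M := by rw [hJ, hM]; exact hB
  rw [← hM] at hcomp hJc hse ht hstep
  rw [← hJ] at huJ hJc hcov
  have hcore : core M = ⊥ := by
    rw [eq_bot_iff, ← hO]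
    exact hcomp.core_le_core
  have huM : u ∈ M := hB'.mem
  have hu1 := h.ne_one hu
  have hp := isPair_quot huu hu1 huJ huM hJc hcov
  obtain ⟨huM', hT⟩ := id hB'
  -- an involution `l`
  obtain ⟨l, hl, hll, hl1, hlu, hsl⟩ := h.exists_inv_comm_one hu (a := s) (m := 1)
    (by rw [pow_one, pow_two, hss]) h1 h2
  have hlM : l ∈ M := by
    rw [hM]
    exact mem_pump_of_mem (h.pair hu) hss h1 h2 hl hsl.symm (k := 1)
      (by rw [pow_one, pow_two, hll])
  have hlu' := h.comm hu hl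
  have hl2 : orderOf l = 2 := orderOf_eq_prime (by rw [pow_two, hll]) hl1
  have hmk : ∀ x (hx : x ∈ M), (QuotientGroup.mk ⟨x, hx⟩ : ↥M ⧸ oddCore ↥M) = 1 → x = 1 := by
    intro x hx e
    rw [mk_eq_one_iff, hcore, mem_bot] at e
    exact e
  have hmk2 : ∀ x (hx : x ∈ M) y (hy : y ∈ M), (QuotientGroup.mk ⟨x, hx⟩ : ↥M ⧸ oddCore ↥M) =
      QuotientGroup.mk ⟨y, hy⟩ → x = y := by
    intro x hx y hy e
    rw [mk_eq_mk_iff', hcore, mem_bot] at e
    exact inv_mul_eq_one.mp e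
  obtain ⟨F, hF⟩ : ∃ F : Subgroup (↥M ⧸ oddCore ↥M),
      F = ((stab M u hu2).subgroupOf M).map (QuotientGroup.mk' (oddCore ↥M)) := ⟨_, rfl⟩
  have hmemF : ∀ g ∈ M, ∀ hg : g ∈ M, Path M u (g * u * g⁻¹) →
      (QuotientGroup.mk ⟨g, hg⟩ : ↥M ⧸ oddCore ↥M) ∈ F := by
    intro g _ hg hpath
    rw [hF]
    exact ⟨⟨g, hg⟩, ⟨hg, hpath⟩, rfl⟩
  have htop : F = ⊤ := by
    refine ANFactBigCent.Target.gen (l := QuotientGroup.mk ⟨l, hlM⟩) hT hp hse ?_ ?_ ?_ ?_ ?_ ?_
    · change (QuotientGroup.mk ⟨l * l, M.mul_mem hlM hlM⟩ : ↥M ⧸ oddCore ↥M) = 1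
      rw [mk_eq_one_iff, hll]
      exact one_mem _
    · exact fun e => hl1 (hmk l hlM e)
    · exact fun e => hlu (hmk2 l hlM u huM e)
    · change (QuotientGroup.mk ⟨l * u, M.mul_mem hlM huM⟩ : ↥M ⧸ oddCore ↥M) =
        QuotientGroup.mk ⟨u * l, M.mul_mem huM hlM⟩
      congr 1
      exact Subtype.ext hlu'
    · intro x hx
      obtain ⟨⟨g, hg⟩, rfl⟩ := QuotientGroup.mk_surjective x
      rw [mem_centralizer_singleton_iff] at hx
      have e1 : g * u = u * g := hmk2 _ (M.mul_mem hg huM) _ (M.mul_mem huM hg) hx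
      refine hmemF g hg hg ?_
      rw [e1, mul_inv_cancel_right]
      exact Relation.ReflTransGen.refl
    · intro x hx
      obtain ⟨⟨g, hg⟩, rfl⟩ := QuotientGroup.mk_surjective x
      rw [mem_centralizer_singleton_iff] at hx
      have e1 : g * l = l * g := hmk2 _ (M.mul_mem hg hlM) _ (M.mul_mem hlM hg) hx
      have e2 : g * l * g⁻¹ = l := by rw [e1, mul_inv_cancel_right]
      refine hmemF g hg hg ?_
      have p1 : Path M u l := Relation.ReflTransGen.single ⟨huM, hlM, hl2, hlu'.symm⟩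
      have p2 : Path M l u := Relation.ReflTransGen.single ⟨hlM, huM, hu2, hlu'⟩
      have p3 := Path.conj p2 hg
      rw [e2] at p3
      exact Relation.ReflTransGen.trans p1 p3
  -- `t` is conjugate to `u`
  obtain ⟨g, hg, rfl⟩ := Big.conj hB' huu ht (sq_of ht2) (ne_of ht2)
  have hgF : (QuotientGroup.mk ⟨g, hg⟩ : ↥M ⧸ oddCore ↥M) ∈ F := by rw [htop]; exact mem_top _
  rw [hF] at hgF
  obtain ⟨⟨g', hg'M⟩, hg', e⟩ := hgF
  have e3 : g' = g := hmk2 g' hg'M g hg e
  have hpath : Path M u (g * u * g⁻¹) := by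
    rw [← e3]
    exact (show g' ∈ M ∧ Path M u (g' * u * g'⁻¹) from hg').2
  -- so `t ∈ S`
  have key : ∀ b, Path M u b → b ∈ S := by
    intro b hb
    induction hb with
    | refl => exact hS
    | tail _ hbc ih =>
      obtain ⟨-, k2, k3, k4⟩ := hbc
      exact hstep _ ih _ k2 k3 k4
  exact key _ hpath

end Cfsg.Agent.Intrinsic.WOneA.Se
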